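import Cfsg.Agent.Lib.Fusion.SmallEssential
import Cfsg.Agent.Lib.Classical.QuadBinary

/-!
Extraspecial groups of order `32`: the number of involutions outside the centre, and the central
product of a quaternion and a dihedral group.
-/

set_option autoImplicit false
set_option linter.unusedSectionVars false
set_option linter.style.haveILetI false

open scoped Classical

namespace CfsgLib.RankFourA5

open Subgroup

variable {E : Type*} [Group E]

/-- The conclusion: a central product of a quaternion and a dihedral group of order eight. -/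
def IsQD (E : Type*) [Group E] : Prop :=
  Nat.card E = 32 ∧ ∃ A B : Subgroup E, Nonempty (↥A ≃* QuaternionGroup 2) ∧
    Nonempty (↥B ≃* DihedralGroup 4) ∧ (∀ a ∈ A, ∀ b ∈ B, a * b = b * a) ∧
      A ⊔ B = ⊤ ∧ A ⊓ B = center E

theorem IsQD.of_mulEquiv {E' : Type*} [Group E'] (e : E ≃* E') (h : IsQD E) : IsQD E' := by
  obtain ⟨hc, A, B, ⟨eA⟩, ⟨eB⟩, hco, hsup, hinf⟩ := h
  refine ⟨by rw [← Nat.card_congr e.toEquiv]; exact hc, A.map e.toMonoidHom, B.map e.toMonoidHom,
    ⟨(A.equivMapOfInjective _ e.injective).symm.trans eA⟩,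
    ⟨(B.equivMapOfInjective _ e.injective).symm.trans eB⟩, ?_, ?_, ?_⟩
  · rintro _ ⟨a, ha, rfl⟩ _ ⟨b, hb, rfl⟩
    rw [← map_mul, hco a ha b hb, map_mul]
  · rw [← Subgroup.map_sup, hsup, Subgroup.map_top_of_surjective _ e.surjective]
  · rw [← Subgroup.map_inf _ _ _ e.injective, hinf]
    ext x
    obtain ⟨y, rfl⟩ := e.surjective x
    simp only [mem_map, mem_center_iff]
    constructor
    · rintro ⟨w, hw, hwy⟩ g
      obtain ⟨g, rfl⟩ := e.surjective g
      obtain rfl := e.injective hwy
      rw [← map_mul, ← map_mul, hw]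
    · intro hy
      refine ⟨y, fun g => e.injective ?_, rfl⟩
      rw [map_mul, map_mul]
      exact hy (e g)

/-- A bit as an exponent. -/
def pw (x : E) (b : Bool) : E := cond b x 1

/-- All squares lie in a central subgroup of order two. -/
structure Two (z : E) : Prop where
  z1 : z ≠ 1
  z2 : z * z = 1
  zc : ∀ g : E, Commute g z
  sq : ∀ g : E, g * g = 1 ∨ g * g = z

variable {z : E}

theorem Two.pw_mul (h : Two z) (a b : Bool) : pw z a * pw z b = pw z (a ^^ b) := by
  cases a <;> cases b <;> simp [pw, h.z2]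

theorem Two.pw_central (h : Two z) (g : E) (a : Bool) : Commute g (pw z a) := by
  cases a <;> simp [pw, h.zc]

theorem Two.sq_mem (h : Two z) (g : E) : ∃ a, g * g = pw z a := by
  rcases h.sq g with e | e
  · exact ⟨false, e⟩
  · exact ⟨true, e⟩

theorem Two.comm_cases (h : Two z) (x y : E) : Commute x y ∨ x * y = z * (y * x) := by
  obtain ⟨a, ha⟩ := h.sq_mem (x * y)
  obtain ⟨b, hb⟩ := h.sq_mem x
  obtain ⟨c, hc⟩ := h.sq_mem y
  have e : x * y = ((x * y * (x * y)) * (y⁻¹ * (x * x)⁻¹ * y) * (y * y)⁻¹) * (y * x) := by group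
  rw [ha, hb, hc, ((h.pw_central y⁻¹ b).inv_right).eq, inv_mul_cancel_right] at e
  have hi : ∀ d, (pw z d)⁻¹ = pw z d := fun d => by
    cases d <;> simp [pw, inv_eq_of_mul_eq_one_right h.z2]
  rw [hi, hi, h.pw_mul, h.pw_mul] at e
  cases hd : (a ^^ b ^^ c) <;> rw [hd] at e
  · exact Or.inl (by simpa [pw, commute_iff_eq] using e)
  · exact Or.inr (by simpa [pw] using e)

/-- The product of two elements not commuting with `y` commutes with it. -/
theorem Two.mul_comm_of_not (h : Two z) {g x y : E} (hg : ¬ Commute g y) (hx : ¬ Commute x y) :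
    Commute (g * x) y := by
  have hg' := (h.comm_cases g y).resolve_left hg
  have hx' := (h.comm_cases x y).resolve_left hx
  calc g * x * y = g * (z * (y * x)) := by rw [mul_assoc, hx']
    _ = z * (g * y) * x := by rw [← mul_assoc g z, (h.zc g).eq]; group
    _ = z * z * (y * g) * x := by rw [hg']; group
    _ = y * (g * x) := by rw [h.z2]; group

/-- Two noncommuting pairs that centralise each other. -/
structure Pairs (z x y u v : E) : Prop where
  two : Two z
  card : Nat.card E = 32
  hxy : ¬ Commute x y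
  huv : ¬ Commute u v
  hxu : Commute x u
  hxv : Commute x v
  hyu : Commute y u
  hyv : Commute y v

/-- The coordinates. -/
def coord (z x y u v : E) (p : Bool × Bool × Bool × Bool × Bool) : E :=
  pw x p.1 * pw y p.2.1 * (pw u p.2.2.1 * pw v p.2.2.2.1) * pw z p.2.2.2.2

theorem commute_pw {g x : E} (h : Commute x g) (b : Bool) : Commute (pw x b) g := by
  cases b <;> simp [pw, h]

theorem commute_mul_right_iff {x R y : E} (hR : Commute R y) : Commute (x * R) y ↔ Commute x y := by
  refine ⟨fun h => ?_, fun h => h.mul_left hR⟩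
  have h2 := h.mul_left hR.inv_left
  rwa [mul_inv_cancel_right] at h2

theorem Pairs.commute_y {x y u v : E} (hp : Pairs z x y u v)
    (p : Bool × Bool × Bool × Bool × Bool) : Commute (coord z x y u v p) y ↔ p.1 = false := by
  obtain ⟨a, b, c, d, e⟩ := p
  simp only [coord, mul_assoc]
  rw [commute_mul_right_iff ((commute_pw (Commute.refl y) b).mul_left
    ((commute_pw hp.hyu.symm c).mul_left ((commute_pw hp.hyv.symm d).mul_left
      (hp.two.pw_central y e).symm)))]
  cases a <;> simp [pw, hp.hxy]

theorem Pairs.swap {x y u v : E} (hp : Pairs z x y u v) : Pairs z u v x y :=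
  ⟨hp.two, hp.card, hp.huv, hp.hxy, hp.hxu.symm, hp.hyu.symm, hp.hxv.symm, hp.hyv.symm⟩

theorem Pairs.commute_x {x y u v : E} (hp : Pairs z x y u v)
    (p : Bool × Bool × Bool × Bool × Bool) : Commute (coord z x y u v p) x ↔ p.2.1 = false := by
  obtain ⟨a, b, c, d, e⟩ := p
  have hR : Commute (pw u c * (pw v d * pw z e)) x :=
    (commute_pw hp.hxu.symm c).mul_left ((commute_pw hp.hxv.symm d).mul_left
      (hp.two.pw_central x e).symm)
  simp only [coord, mul_assoc]
  rw [← mul_assoc, commute_mul_right_iff hR]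
  cases b
  · cases a <;> simp [pw]
  · simp only [reduceCtorEq, iff_false]
    intro hc
    have h2 : Commute (pw y true) x := by
      have h3 := (commute_pw (Commute.refl x) a).inv_left.mul_left hc
      rwa [inv_mul_cancel_left] at h3
    exact hp.hxy (by simpa [pw] using h2.symm)

theorem Pairs.coord_swap {x y u v : E} (hp : Pairs z x y u v) (a b c d e : Bool) :
    coord z u v x y (c, d, a, b, e) = coord z x y u v (a, b, c, d, e) := by
  simp only [coord]
  congr 1
  have h1 : ∀ {g : E}, Commute x g → Commute y g → Commute g (pw x a * pw y b) := fun hx hy =>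
    ((commute_pw hx a).mul_left (commute_pw hy b)).symm
  exact ((commute_pw (h1 hp.hxu hp.hyu) c).mul_left (commute_pw (h1 hp.hxv hp.hyv) d)).eq

theorem Pairs.commute_v {x y u v : E} (hp : Pairs z x y u v)
    (p : Bool × Bool × Bool × Bool × Bool) : Commute (coord z x y u v p) v ↔ p.2.2.1 = false := by
  obtain ⟨a, b, c, d, e⟩ := p
  rw [← hp.coord_swap]
  exact hp.swap.commute_y (c, d, a, b, e)

theorem Pairs.commute_u {x y u v : E} (hp : Pairs z x y u v)
    (p : Bool × Bool × Bool × Bool × Bool) : Commute (coord z x y u v p) u ↔ p.2.2.2.1 = false := by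
  obtain ⟨a, b, c, d, e⟩ := p
  rw [← hp.coord_swap]
  exact hp.swap.commute_x (c, d, a, b, e)

theorem Pairs.bijective [Finite E] {x y u v : E} (hp : Pairs z x y u v) :
    Function.Bijective (coord z x y u v) := by
  refine (Nat.bijective_iff_injective_and_card _).2 ⟨fun p p' h => ?_, by
    simp [hp.card, Nat.card_eq_fintype_card]⟩
  have key : ∀ {a b : Bool}, (a = false ↔ b = false) → a = b := by decide
  have e1 := key ((hp.commute_y p).symm.trans (h ▸ hp.commute_y p'))
  have e2 := key ((hp.commute_x p).symm.trans (h ▸ hp.commute_x p'))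
  have e3 := key ((hp.commute_v p).symm.trans (h ▸ hp.commute_v p'))
  have e4 := key ((hp.commute_u p).symm.trans (h ▸ hp.commute_u p'))
  obtain ⟨a, b, c, d, e⟩ := p
  obtain ⟨a', b', c', d', e'⟩ := p'
  dsimp only at e1 e2 e3 e4
  subst e1 e2 e3 e4
  simp only [coord, mul_right_inj] at h
  cases e <;> cases e' <;> simp [pw, hp.two.z1, eq_comm] at h ⊢

theorem Pairs.sq_pair {x y : E} (h : Two z) (hxy : ¬ Commute x y) {sx sy : Bool}
    (hx : x * x = pw z sx) (hy : y * y = pw z sy) (a b : Bool) :
    pw x a * pw y b * (pw x a * pw y b) = pw z ((a && sx) ^^ (b && sy) ^^ (a && b)) := by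
  cases a <;> cases b
  · simp [pw]
  · simp [pw, hy]
  · simp [pw, hx]
  · have e := (h.comm_cases y x).resolve_left (fun e => hxy e.symm)
    have h1 : pw x true * pw y true * (pw x true * pw y true) = x * (y * x) * y := by
      simp [pw, mul_assoc]
    rw [h1, e, ← mul_assoc x z, (h.zc x).eq,
      show z * x * (x * y) * y = z * ((x * x) * (y * y)) by group, hx, hy, h.pw_mul]
    refine (h.pw_mul true (sx ^^ sy)).trans ?_
    simp [Bool.xor_comm, pw]

/-- The square of an element with the given coordinates. -/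
def sqBit (s : Bool × Bool × Bool × Bool) (p : Bool × Bool × Bool × Bool × Bool) : Bool :=
  ((p.1 && s.1) ^^ (p.2.1 && s.2.1) ^^ (p.1 && p.2.1)) ^^
    ((p.2.2.1 && s.2.2.1) ^^ (p.2.2.2.1 && s.2.2.2) ^^ (p.2.2.1 && p.2.2.2.1))

theorem Pairs.sq_coord {x y u v : E} (hp : Pairs z x y u v) {sx sy su sv : Bool}
    (hx : x * x = pw z sx) (hy : y * y = pw z sy) (hu : u * u = pw z su) (hv : v * v = pw z sv)
    (p : Bool × Bool × Bool × Bool × Bool) :
    coord z x y u v p * coord z x y u v p = pw z (sqBit (sx, sy, su, sv) p) := by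
  obtain ⟨a, b, c, d, e⟩ := p
  have hc : Commute (pw x a * pw y b) (pw u c * pw v d) := by
    have h1 : ∀ {g : E}, Commute x g → Commute y g → Commute g (pw x a * pw y b) := fun hx hy =>
      ((commute_pw hx a).mul_left (commute_pw hy b)).symm
    exact ((commute_pw (h1 hp.hxu hp.hyu) c).mul_left (commute_pw (h1 hp.hxv hp.hyv) d)).symm
  simp only [coord]
  rw [(hp.two.pw_central _ e).symm.mul_mul_mul_comm, hc.symm.mul_mul_mul_comm,
    Pairs.sq_pair hp.two hp.hxy hx hy, Pairs.sq_pair hp.two hp.huv hu hv, hp.two.pw_mul,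
    hp.two.pw_mul, hp.two.pw_mul]
  simp [sqBit]

theorem Two.normalise (h : Two z) {x y : E} (hxy : ¬ Commute x y) :
    ∃ x' y' : E, ¬ Commute x' y' ∧ x' * x' = z ∧
      ∀ g : E, Commute g x → Commute g y → Commute g x' ∧ Commute g y' := by
  rcases h.sq x with hx | hx
  · rcases h.sq y with hy | hy
    · refine ⟨x * y, y, fun hc => hxy ((commute_mul_right_iff (Commute.refl y)).1 hc), ?_,
        fun g hgx hgy => ⟨hgx.mul_right hgy, hgy⟩⟩
      have h1 := Pairs.sq_pair (sx := false) (sy := false) h hxy hx hy true true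
      simpa [pw] using h1
    · exact ⟨y, x, fun e => hxy e.symm, hy, fun g hgx hgy => ⟨hgy, hgx⟩⟩
  · exact ⟨x, y, hxy, hx, fun g hgx hgy => ⟨hgx, hgy⟩⟩

theorem Pairs.isQD [Finite E] {x y u v : E} (hp : Pairs z x y u v) (hx : x * x = z) (hy : y * y = z)
    (hu : u * u = z) (hv : v * v = 1) : IsQD E := by
  have hbij := hp.bijective
  have hz1 := hp.two.z1
  set A := centralizer ({u, v} : Set E) with hA
  set B := centralizer ({x, y} : Set E) with hB
  have hmA : ∀ g : E, g ∈ A ↔ Commute g u ∧ Commute g v := fun g =>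
    ⟨fun h => ⟨(mem_centralizer_iff.1 h u (Or.inl rfl)).symm, (mem_centralizer_iff.1 h v (Or.inr rfl)).symm⟩,
      fun h => mem_centralizer_iff.2 fun w hw => by
        rcases hw with hw | hw <;> subst w
        · exact h.1.symm.eq
        · exact h.2.symm.eq⟩
  have hmB : ∀ g : E, g ∈ B ↔ Commute g x ∧ Commute g y := fun g =>
    ⟨fun h => ⟨(mem_centralizer_iff.1 h x (Or.inl rfl)).symm, (mem_centralizer_iff.1 h y (Or.inr rfl)).symm⟩,
      fun h => mem_centralizer_iff.2 fun w hw => by
        rcases hw with hw | hw <;> subst w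
        · exact h.1.symm.eq
        · exact h.2.symm.eq⟩
  have cA : Nat.card A = 8 := by
    rw [← Nat.card_congr ((Equiv.ofBijective _ hbij).subtypeEquiv (q := fun g => g ∈ A) (fun p =>
      show (p.2.2.1 = false ∧ p.2.2.2.1 = false) ↔ _ by
        rw [hmA, ← hp.commute_u p, ← hp.commute_v p]; exact and_comm)),
      Nat.card_eq_fintype_card]
    decide
  have cB : Nat.card B = 8 := by
    rw [← Nat.card_congr ((Equiv.ofBijective _ hbij).subtypeEquiv (q := fun g => g ∈ B) (fun p =>
      show (p.1 = false ∧ p.2.1 = false) ↔ _ by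
        rw [hmB, ← hp.commute_x p, ← hp.commute_y p]; exact and_comm)),
      Nat.card_eq_fintype_card]
    decide
  have xA : x ∈ A := (hmA x).2 ⟨hp.hxu, hp.hxv⟩
  have yA : y ∈ A := (hmA y).2 ⟨hp.hyu, hp.hyv⟩
  have uB : u ∈ B := (hmB u).2 ⟨hp.hxu.symm, hp.hyu.symm⟩
  have vB : v ∈ B := (hmB v).2 ⟨hp.hxv.symm, hp.hyv.symm⟩
  have zA : z ∈ A := (hmA z).2 ⟨(hp.two.zc u).symm, (hp.two.zc v).symm⟩
  have zB : z ∈ B := (hmB z).2 ⟨(hp.two.zc x).symm, (hp.two.zc y).symm⟩
  have mem_pw : ∀ {K : Subgroup E} {g : E} (b : Bool), g ∈ K → pw g b ∈ K := fun {K g} b hg => by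
    cases b
    · exact one_mem K
    · exact hg
  refine ⟨hp.card, A, B, ?_, ?_, ?_, ?_, ?_⟩
  · exact Fusion.quaternion_of_two_cyclic (by rw [cA]; norm_num)
      (fun h => hp.hxy (congrArg Subtype.val (h ⟨x, xA⟩ ⟨y, yA⟩)))
      (x := ⟨x, xA⟩) (y := ⟨y, yA⟩)
      (fun e => hz1 (by have := congrArg Subtype.val e; simpa [pow_two, hx] using this))
      (fun e => hz1 (by have := congrArg Subtype.val e; simpa [pow_two, hy] using this))
      (fun e => by
        obtain ⟨i, hi⟩ := mem_zpowers_iff.1 e
        have hi' : x ^ i = y := congrArg Subtype.val hi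
        exact hp.hxy (hi' ▸ Commute.self_zpow x i))
  · refine Classical.dihedral_of_rotation (n := 4) (by norm_num) (r := ⟨u, uB⟩) (s := ⟨v, vB⟩)
      ?_ (Subtype.ext hv) ?_ ?_ (by rw [cB])
    · rw [← orderOf_coe]
      refine (orderOf_eq_prime_pow (p := 2) (n := 1) ?_ ?_).trans (by norm_num)
      · simpa [pow_two, hu] using hz1
      · show u ^ 4 = 1
        rw [show 4 = 2 * 2 from rfl, pow_mul, pow_two u, hu, pow_two, hp.two.z2]
    · refine Subtype.ext (eq_inv_of_mul_eq_one_left ?_)
      show v * u * v * u = 1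
      have e := (hp.two.comm_cases v u).resolve_left (fun e => hp.huv e.symm)
      calc v * u * v * u = (v * u) * (v * u) := mul_assoc _ _ _
        _ = z * (u * v) * (v * u) := congrArg (· * (v * u)) e
        _ = z * (u * (v * v) * u) := by group
        _ = 1 := by rw [hv, mul_one, hu, hp.two.z2]
    · intro e
      obtain ⟨i, hi⟩ := mem_zpowers_iff.1 e
      have hi' : u ^ i = v := congrArg Subtype.val hi
      exact hp.huv (hi' ▸ Commute.self_zpow u i)
  · intro a ha b hb
    obtain ⟨⟨a1, a2, a3, a4, a5⟩, rfl⟩ := hbij.2 a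
    obtain ⟨h3, h4⟩ := (hmA _).1 ha
    obtain ⟨h1, h2⟩ := (hmB _).1 hb
    obtain rfl : a4 = false := (hp.commute_u _).1 h3
    obtain rfl : a3 = false := (hp.commute_v _).1 h4
    simp only [coord]
    exact ((((commute_pw h1.symm a1).mul_left (commute_pw h2.symm a2)).mul_left
      (show Commute (pw u false * pw v false) b by simp [pw])).mul_left
        (hp.two.pw_central b a5).symm).eq
  · refine eq_top_iff.2 fun g _ => ?_
    obtain ⟨⟨a, b, c, d, e⟩, rfl⟩ := hbij.2 g
    refine mul_mem (mul_mem (mem_sup_left (mul_mem (mem_pw a xA) (mem_pw b yA)))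
      (mem_sup_right (mul_mem (mem_pw c uB) (mem_pw d vB)))) (mem_sup_left (mem_pw e zA))
  · ext g
    obtain ⟨p, rfl⟩ := hbij.2 g
    rw [mem_inf, hmA, hmB, mem_center_iff]
    constructor
    · rintro ⟨⟨h3, h4⟩, h1, h2⟩ g
      obtain ⟨⟨a, b, c, d, e⟩, rfl⟩ := hbij.2 g
      exact (((commute_pw h1.symm a).mul_left (commute_pw h2.symm b)).mul_left
        ((commute_pw h3.symm c).mul_left (commute_pw h4.symm d))).mul_left
          ((hp.two.pw_central _ e).symm)
    · intro h
      exact ⟨⟨(h u).symm, (h v).symm⟩, (h x).symm, (h y).symm⟩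

/-- A group of order `32` with all squares in the centre of order two: either eighteen noncentral
involutions, or ten and a central product of a quaternion and a dihedral group. -/
theorem extra_thirty_two [Finite E] (h : Two z) (hE : Nat.card E = 32)
    (hna : ∃ x y : E, ¬ Commute x y)
    (hcen : ∀ g : E, (∀ x : E, Commute g x) → g = 1 ∨ g = z) :
    Nat.card {g : E // g * g = 1 ∧ g ≠ 1 ∧ g ≠ z} = 18 ∨
      (Nat.card {g : E // g * g = 1 ∧ g ≠ 1 ∧ g ≠ z} = 10 ∧ IsQD E) := by
  obtain ⟨x0, y0, h0⟩ := hna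
  obtain ⟨x, y, hxy, hx, -⟩ := h.normalise h0
  obtain ⟨u0, v0, hu0, hv0, huv0⟩ : ∃ u v : E, (Commute u x ∧ Commute u y) ∧
      (Commute v x ∧ Commute v y) ∧ ¬ Commute u v := by
    by_contra hno
    push Not at hno
    have hsplit : ∀ g : E, ∃ a b : Bool, Commute (g * pw x a * pw y b) x ∧
        Commute (g * pw x a * pw y b) y := by
      intro g
      by_cases ha : Commute g y
      · by_cases hb : Commute g x
        · exact ⟨false, false, by simp [pw, hb], by simp [pw, ha]⟩
        · exact ⟨false, true, by simpa [pw] using h.mul_comm_of_not hb (fun e => hxy e.symm),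
            by simpa [pw] using ha.mul_left (Commute.refl y)⟩
      · have h1 := h.mul_comm_of_not ha hxy
        by_cases hb : Commute g x
        · exact ⟨true, false, by simpa [pw] using hb.mul_left (Commute.refl x),
            by simpa [pw] using h1⟩
        · exact ⟨true, true, by
            simpa [pw] using h.mul_comm_of_not
              (fun e => hb ((commute_mul_right_iff (Commute.refl x)).1 e)) (fun e => hxy e.symm),
            by simpa [pw] using h1.mul_left (Commute.refl y)⟩
    have hC : ∀ c : E, Commute c x → Commute c y → c = 1 ∨ c = z := fun c hcx hcy =>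
      hcen c fun g => by
        obtain ⟨a, b, h1, h2⟩ := hsplit g
        have h3 := hno c (g * pw x a * pw y b) ⟨hcx, hcy⟩ ⟨h1, h2⟩
        have h4 : Commute c (g * pw x a * pw y b * (pw y b)⁻¹ * (pw x a)⁻¹) :=
          (h3.mul_right (commute_pw hcy.symm b).symm.inv_right).mul_right
            (commute_pw hcx.symm a).symm.inv_right
        simpa using h4
    let f : Bool × Bool × Bool → E := fun p => pw z p.1 * (pw y p.2.2)⁻¹ * (pw x p.2.1)⁻¹
    have hf : Function.Surjective f := fun g => by
      obtain ⟨a, b, h1, h2⟩ := hsplit g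
      rcases hC _ h1 h2 with e | e
      · refine ⟨(false, a, b), ?_⟩
        show pw z false * (pw y b)⁻¹ * (pw x a)⁻¹ = g
        rw [show pw z false = g * pw x a * pw y b from e.symm]
        group
      · refine ⟨(true, a, b), ?_⟩
        show pw z true * (pw y b)⁻¹ * (pw x a)⁻¹ = g
        rw [show pw z true = g * pw x a * pw y b from e.symm]
        group
    have h8 := Nat.card_le_card_of_surjective f hf
    rw [hE] at h8
    simp [Nat.card_eq_fintype_card] at h8
  obtain ⟨u, v, huv, hu, hcom⟩ := h.normalise huv0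
  obtain ⟨hxu, hxv⟩ := hcom x hu0.1.symm hv0.1.symm
  obtain ⟨hyu, hyv⟩ := hcom y hu0.2.symm hv0.2.symm
  have hp : Pairs z x y u v := ⟨h, hE, hxy, huv, hxu, hxv, hyu, hyv⟩
  obtain ⟨sy, hsy⟩ := h.sq_mem y
  obtain ⟨sv, hsv⟩ := h.sq_mem v
  have hbij := hp.bijective
  have hiff : ∀ p : Bool × Bool × Bool × Bool × Bool,
      (sqBit (true, sy, true, sv) p = false ∧
          (p.1 || p.2.1 || p.2.2.1 || p.2.2.2.1) = true) ↔
        (coord z x y u v p * coord z x y u v p = 1 ∧ coord z x y u v p ≠ 1 ∧
          coord z x y u v p ≠ z) := by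
    intro p
    rw [hp.sq_coord (sx := true) (su := true) hx hsy hu hsv]
    refine and_congr ?_ ?_
    · cases sqBit (true, sy, true, sv) p <;> simp [pw, h.z1]
    · rw [show (1 : E) = coord z x y u v (false, false, false, false, false) by simp [coord, pw],
        hbij.1.ne_iff]
      have ez : z = coord z x y u v (false, false, false, false, true) := by simp [coord, pw]
      conv_rhs => arg 2; arg 2; rw [ez]
      rw [hbij.1.ne_iff]
      revert p
      decide
  rw [← Nat.card_congr ((Equiv.ofBijective _ hbij).subtypeEquiv hiff), Nat.card_eq_fintype_card]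
  cases sy <;> cases sv
  · exact Or.inl (by decide)
  · exact Or.inr ⟨by decide, hp.swap.isQD hu hsv hx hsy⟩
  · exact Or.inr ⟨by decide, hp.isQD hx hsy hu hsv⟩
  · exact Or.inl (by decide)

end CfsgLib.RankFourA5
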