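import Cfsg.Agent.Lib.RankFourA5.Module
import Cfsg.Agent.Lib.RankFourA5.Pairs
import Cfsg.Agent.Lib.PGroup.Basic

/-!
The radical of an extension by the alternating group of degree five of sectional `2`-rank at most four.
-/

set_option autoImplicit false
set_option linter.unusedSectionVars false
set_option linter.style.haveILetI false

open scoped Classical

namespace CfsgLib.RankFourA5

open Subgroup

variable {G : Type*} [Group G] [Finite G] {Q P W : Subgroup G}

/-- The subgroup `P` generated by the squares of `Q`, with a nontrivial action on `Q / P`. -/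
structure Rad (Q P : Subgroup G) : Prop where
  normal : P.Normal
  le : P ≤ Q
  sq : ∀ q ∈ Q, q * q ∈ P
  min : ∀ M : Subgroup G, (∀ q ∈ Q, q * q ∈ M) → P ≤ M
  act : ∃ g : G, ∃ q ∈ Q, g * q * g⁻¹ * q⁻¹ ∉ P

theorem mk_eq_one {N : Subgroup G} [N.Normal] {g : G} : QuotientGroup.mk' N g = 1 ↔ g ∈ N :=
  QuotientGroup.eq_one_iff g

theorem card_two_gen {N : Subgroup G} (h : Nat.card N = 2) :
    ∃ z ∈ N, z ≠ 1 ∧ z * z = 1 ∧ ∀ x ∈ N, x = 1 ∨ x = z := by
  obtain ⟨z, hz, hu⟩ : ∃! z : N, z ≠ 1 := (Nat.card_eq_two_iff' (1 : N)).1 h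
  refine ⟨z, z.2, fun e => hz (Subtype.ext e), ?_, fun x hx => ?_⟩
  · have := pow_card_eq_one' (x := z)
    rw [h, pow_two] at this
    exact congrArg Subtype.val this
  · by_cases hx1 : x = 1
    · exact Or.inl hx1
    · exact Or.inr (congrArg Subtype.val (hu ⟨x, hx⟩ (fun e => hx1 (congrArg Subtype.val e))))

theorem central_of_card_two [hN : W.Normal] (h : Nat.card W = 2) (g : G) {w : G} (hw : w ∈ W) :
    g * w = w * g := by
  obtain ⟨z, hz, hz1, -, hc⟩ := card_two_gen h
  rcases hc w hw with rfl | rfl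
  · simp
  · rcases hc _ (hN.conj_mem w hw g) with e | e
    · exact absurd (conj_eq_one_iff.1 e) hz1
    · exact mul_inv_eq_iff_eq_mul.1 e

/-- Orbits of an element of prime order acting by conjugation on an invariant set. -/
theorem card_modEq_commute {p : ℕ} [hp : Fact p.Prime] {t : G} (ht : t ^ p = 1) (ht1 : t ≠ 1)
    (S : G → Prop) (hS : ∀ (g s : G), S s → S (g * s * g⁻¹)) :
    Nat.card {s // S s} ≡ Nat.card {s // S s ∧ t * s = s * t} [MOD p] := by
  let T := Subgroup.zpowers t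
  have hT : IsPGroup p T := IsPGroup.of_card (n := 1) (by
    rw [Nat.card_zpowers, orderOf_eq_prime ht ht1, pow_one])
  letI : MulAction T {s // S s} :=
    { smul := fun g s => ⟨(g : G) * s * (g : G)⁻¹, hS g s s.2⟩
      one_smul := fun s => Subtype.ext (by show (1 : G) * s * (1 : G)⁻¹ = s; simp)
      mul_smul := fun g h s => Subtype.ext (by
        show (g * h : G) * s * (g * h : G)⁻¹ = g * (h * s * (h : G)⁻¹) * (g : G)⁻¹
        group) }
  refine (hT.card_modEq_card_fixedPoints {s // S s}).trans (congrArg (· % p) (Nat.card_congr ?_))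
  exact
    { toFun := fun s => ⟨(s : {s // S s}), (s : {s // S s}).2,
        mul_inv_eq_iff_eq_mul.1 (congrArg Subtype.val (s.2 ⟨t, mem_zpowers t⟩))⟩
      invFun := fun s => ⟨⟨s.1, s.2.1⟩, fun g => Subtype.ext (by
        show (g : G) * s.1 * (g : G)⁻¹ = s.1
        obtain ⟨i, hi⟩ := mem_zpowers_iff.1 g.2
        rw [← hi, mul_inv_eq_iff_eq_mul]
        exact (Commute.zpow_left s.2.2 i).eq)⟩
      left_inv := fun _ => rfl
      right_inv := fun _ => rfl }

theorem Rad.comm (hR : Rad Q P) {a b : G} (ha : a ∈ Q) (hb : b ∈ Q) :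
    a * b * a⁻¹ * b⁻¹ ∈ P := by
  have h3 : b⁻¹ * (a * a)⁻¹ * b ∈ P := by
    have := hR.normal.conj_mem _ (inv_mem (hR.sq a ha)) b⁻¹
    rwa [inv_inv] at this
  rw [show a * b * a⁻¹ * b⁻¹ = a * b * (a * b) * (b⁻¹ * (a * a)⁻¹ * b) * (b * b)⁻¹ by group]
  exact mul_mem (mul_mem (hR.sq _ (mul_mem ha hb)) h3) (inv_mem (hR.sq b hb))

theorem Rad.quotMod (h : Setup Q) (hR : Rad Q P) :
    haveI := hR.normal
    Mod (Q.map (QuotientGroup.mk' P)) (Q.map (QuotientGroup.mk' P)) := by
  haveI := hR.normal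
  have hsq : ∀ a ∈ Q.map (QuotientGroup.mk' P), a * a = 1 := by
    rintro _ ⟨q, hq, rfl⟩
    rw [← map_mul]
    exact mk_eq_one.2 (hR.sq q hq)
  refine ⟨h.normal.map _ (QuotientGroup.mk'_surjective P), le_rfl, hsq,
    fun q hq a ha => comm_of_sq hsq hq ha, ?_⟩
  obtain ⟨g, q, hq, hne⟩ := hR.act
  refine ⟨QuotientGroup.mk' P g, QuotientGroup.mk' P q, mem_map_of_mem _ hq, fun e => hne ?_⟩
  rw [← mk_eq_one, map_mul, map_mul, map_mul, map_inv, map_inv, e]
  group

theorem Rad.card (h : Setup Q) (hR : Rad Q P) : Nat.card Q = 16 * Nat.card P := by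
  haveI := hR.normal
  have e : Q = (Q.map (QuotientGroup.mk' P)).comap (QuotientGroup.mk' P) := by
    ext g; exact (mem_map_mk hR.le).symm
  rw [e, card_comap_mk, (hR.quotMod h).card (h.quotient P hR.le), mul_comm]

theorem Rad.between (h : Setup Q) (hR : Rad Q P) (U : Subgroup G) [hU : U.Normal] (hPU : P ≤ U)
    (hUQ : U ≤ Q) : U = P ∨ U = Q := by
  haveI := hR.normal
  rcases (hR.quotMod h).irreducible (h.quotient P hR.le) (U.map (QuotientGroup.mk' P))
    (hU.map _ (QuotientGroup.mk'_surjective P)) (map_mono hUQ) with e | e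
  · refine Or.inl (le_antisymm (fun u hu => mk_eq_one.1 ?_) hPU)
    exact mem_bot.1 (e ▸ mem_map_of_mem _ hu)
  · refine Or.inr (le_antisymm hUQ fun q hq => (mem_map_mk hPU).1 ?_)
    exact e ▸ mem_map_of_mem _ hq

theorem Rad.fpf (h : Setup Q) (hR : Rad Q P) {t q : G} (ht : t ∉ Q) (ht5 : t ^ 5 ∈ Q) (hq : q ∈ Q)
    (hc : t * q * t⁻¹ * q⁻¹ ∈ P) : q ∈ P := by
  haveI := hR.normal
  refine mk_eq_one.1 (((hR.quotMod h).five (h.quotient P hR.le) (t := QuotientGroup.mk' P t)
    (fun e => ht ((mem_map_mk hR.le).1 e)) ?_).2 _ (mem_map_of_mem _ hq) ?_)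
  · rw [← map_pow]; exact mem_map_of_mem _ ht5
  · have h1 := mk_eq_one.2 hc
    rw [map_mul, map_mul, map_mul, map_inv, map_inv] at h1
    exact mul_inv_eq_iff_eq_mul.1 (mul_inv_eq_one.1 h1)

theorem Rad.quotient (hR : Rad Q P) (N : Subgroup G) [N.Normal] (hN : N ≤ P) :
    Rad (Q.map (QuotientGroup.mk' N)) (P.map (QuotientGroup.mk' N)) := by
  refine ⟨hR.normal.map _ (QuotientGroup.mk'_surjective N), map_mono hR.le, ?_, fun M hM => ?_, ?_⟩
  · rintro _ ⟨q, hq, rfl⟩
    rw [← map_mul]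
    exact mem_map_of_mem _ (hR.sq q hq)
  · rw [map_le_iff_le_comap]
    refine hR.min _ fun q hq => ?_
    rw [mem_comap, map_mul]
    exact hM _ (mem_map_of_mem _ hq)
  · obtain ⟨g, q, hq, hne⟩ := hR.act
    refine ⟨QuotientGroup.mk' N g, QuotientGroup.mk' N q, mem_map_of_mem _ hq, fun e => hne ?_⟩
    rw [← map_inv, ← map_inv, ← map_mul, ← map_mul, ← map_mul] at e
    exact (mem_map_mk hN).1 e

/-- `Q` is not covered by two cosets of `P`. -/
theorem Rad.coset_bound (h : Setup Q) (hR : Rad Q P)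
    (hab : ∀ a ∈ Q, a ∉ P → ∀ b ∈ Q, b ∉ P → a * b ∈ P) : False := by
  haveI := hR.normal
  have h16 := (hR.quotMod h).card (h.quotient P hR.le)
  have h2 : Nat.card (Q.map (QuotientGroup.mk' P)) ≤ 2 := by
    by_cases hex : ∃ a ∈ Q, a ∉ P
    · obtain ⟨a, ha, haP⟩ := hex
      refine le_trans (Nat.card_le_card_of_surjective
        (fun b : Bool => (⟨cond b (QuotientGroup.mk' P a⁻¹) 1, by
          cases b
          · exact one_mem _
          · exact mem_map_of_mem _ (inv_mem ha)⟩ : Q.map (QuotientGroup.mk' P))) ?_) (by simp)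
      rintro ⟨_, b, hb, rfl⟩
      by_cases hbP : b ∈ P
      · exact ⟨false, Subtype.ext (mk_eq_one.2 hbP).symm⟩
      · refine ⟨true, Subtype.ext ?_⟩
        show QuotientGroup.mk' P a⁻¹ = QuotientGroup.mk' P b
        have := mk_eq_one.2 (hab a ha haP b hb hbP)
        rw [map_mul] at this
        rw [map_inv]
        exact inv_eq_of_mul_eq_one_right this
    · push Not at hex
      have : Q.map (QuotientGroup.mk' P) = ⊥ := eq_bot_iff.2 (by
        rintro _ ⟨b, hb, rfl⟩
        exact mem_bot.2 (mk_eq_one.2 (hex b hb)))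
      rw [this, card_bot]; norm_num
  omega

theorem Rad.exists_noncomm (h : Setup Q) (hR : Rad Q P) (hP : Nat.card P = 2) :
    ∃ x ∈ Q, ∃ y ∈ Q, ¬ Commute x y := by
  haveI := hR.normal
  haveI := h.normal
  by_contra hno
  push Not at hno
  obtain ⟨z, hzP, hz1, hz2, hz⟩ := card_two_gen hP
  let K : Subgroup G :=
    { carrier := {q | q ∈ Q ∧ q * q = 1}
      one_mem' := ⟨one_mem Q, one_mul 1⟩
      mul_mem' := fun {a b} ha hb => ⟨mul_mem ha.1 hb.1, by
        rw [(hno b hb.1 a ha.1).mul_mul_mul_comm, ha.2, hb.2, one_mul]⟩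
      inv_mem' := fun {a} ha => ⟨inv_mem ha.1, by rw [← mul_inv_rev, ha.2, inv_one]⟩ }
  haveI : K.Normal := ⟨fun a ha g => ⟨h.normal.conj_mem a ha.1 g, by
    rw [show g * a * g⁻¹ * (g * a * g⁻¹) = g * (a * a) * g⁻¹ by group, ha.2]; simp⟩⟩
  have hPK : P ≤ K := fun x hx => ⟨hR.le hx, by rcases hz x hx with rfl | rfl <;> simp [hz2]⟩
  rcases hR.between h K hPK (fun q hq => hq.1) with e | e
  · refine hR.coset_bound h fun a ha haP b hb hbP => e ▸ (⟨mul_mem ha hb, ?_⟩ : a * b ∈ K)
    have hh : ∀ q ∈ Q, q ∉ P → q * q = z := fun q hq hqP =>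
      (hz _ (hR.sq q hq)).resolve_left fun e1 => hqP (e ▸ (⟨hq, e1⟩ : q ∈ K))
    rw [(hno b hb a ha).mul_mul_mul_comm, hh a ha haP, hh b hb hbP, hz2]
  · have := hR.min ⊥ (fun q hq => mem_bot.2 (e.symm ▸ hq : q ∈ K).2) hzP
    exact hz1 (mem_bot.1 this)

/-- The radical of order `32`. -/
theorem Rad.single (h : Setup Q) (hR : Rad Q P) (hP : Nat.card P = 2) :
    Nat.card {q : G // q ∈ Q ∧ q ∉ P ∧ q * q = 1} = 10 ∧ IsQD Q := by
  haveI := hR.normal
  haveI := h.normal
  obtain ⟨x, hx, y, hy, hxy⟩ := hR.exists_noncomm h hP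
  obtain ⟨z, hzP, hz1, hz2, hz⟩ := card_two_gen hP
  let zQ : Q := ⟨z, hR.le hzP⟩
  have h2 : Two zQ := ⟨fun e => hz1 (congrArg Subtype.val e), Subtype.ext hz2,
    fun g => Subtype.ext (central_of_card_two hP (g : G) hzP),
    fun g => (hz _ (hR.sq g g.2)).imp (fun e => Subtype.ext e) (fun e => Subtype.ext e)⟩
  have hK : Q ⊓ centralizer (Q : Set G) = P := by
    refine (hR.between h (Q ⊓ centralizer (Q : Set G)) (fun p hp => ⟨hR.le hp, mem_centralizer_iff.2
      fun q _ => central_of_card_two hP q hp⟩) inf_le_left).resolve_right fun e => hxy ?_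
    have hxc : x ∈ Q ⊓ centralizer (Q : Set G) := e.symm ▸ hx
    exact (mem_centralizer_iff.1 hxc.2 y hy).symm
  have hcen : ∀ g : Q, (∀ w : Q, Commute g w) → g = 1 ∨ g = zQ := fun g hg => by
    have : (g : G) ∈ Q ⊓ centralizer (Q : Set G) := ⟨g.2, mem_centralizer_iff.2 fun w hw =>
      (congrArg Subtype.val (hg ⟨w, hw⟩)).symm⟩
    rw [hK] at this
    exact (hz _ this).imp (fun e => Subtype.ext e) (fun e => Subtype.ext e)
  have he : Nat.card {g : Q // g * g = 1 ∧ g ≠ 1 ∧ g ≠ zQ} =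
      Nat.card {q : G // q ∈ Q ∧ q ∉ P ∧ q * q = 1} := by
    refine Nat.card_congr
      { toFun := fun g => ⟨(g : Q), (g : Q).2, fun hgP => ?_, congrArg Subtype.val g.2.1⟩
        invFun := fun q => ⟨⟨q.1, q.2.1⟩, Subtype.ext q.2.2.2,
          fun e => q.2.2.1 (by rw [show q.1 = 1 from congrArg Subtype.val e]; exact one_mem P),
          fun e => q.2.2.1 (by rw [show q.1 = z from congrArg Subtype.val e]; exact hzP)⟩
        left_inv := fun _ => rfl
        right_inv := fun _ => rfl }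
    rcases hz _ hgP with e | e
    · exact g.2.2.1 (Subtype.ext e)
    · exact g.2.2.2 (Subtype.ext e)
  haveI : Fact (Nat.Prime 5) := ⟨by norm_num⟩
  obtain ⟨t, ht, htQ⟩ := h.exists_prime_elt (p := 5) (by norm_num) (by norm_num) (by norm_num)
  have hmod := card_modEq_commute (p := 5) ht (fun e => htQ (e ▸ one_mem Q))
    (fun q => q ∈ Q ∧ q ∉ P ∧ q * q = 1) (fun g s hs => ⟨h.normal.conj_mem s hs.1 g,
      fun hm => hs.2.1 (by simpa [mul_assoc] using hR.normal.conj_mem _ hm g⁻¹),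
      by rw [show g * s * g⁻¹ * (g * s * g⁻¹) = g * (s * s) * g⁻¹ by group, hs.2.2]; simp⟩)
  haveI : IsEmpty {q : G // (q ∈ Q ∧ q ∉ P ∧ q * q = 1) ∧ t * q = q * t} :=
    ⟨fun q => q.2.1.2.1 (hR.fpf h htQ (by rw [ht]; exact one_mem Q) q.2.1.1
      (by rw [q.2.2]; simp))⟩
  rw [Nat.card_of_isEmpty (α := {q : G // (q ∈ Q ∧ q ∉ P ∧ q * q = 1) ∧ t * q = q * t})] at hmod
  rcases extra_thirty_two h2 (by rw [hR.card h, hP])
    ⟨⟨x, hx⟩, ⟨y, hy⟩, fun e => hxy (congrArg Subtype.val e)⟩ hcen with e | ⟨e, hqd⟩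
  · rw [he] at e
    rw [e] at hmod
    exact absurd hmod (by decide)
  · exact ⟨he.symm.trans e, hqd⟩

/-- A minimal normal subgroup inside `Q`. -/
theorem minimal_two (h : Setup Q) [hWn : W.Normal] (hWQ : W ≤ Q) (hW : W ≠ ⊥)
    (hmin : ∀ U : Subgroup G, U.Normal → U ≤ W → U = ⊥ ∨ U = W) :
    Nat.card W = 2 ∨ Mod Q W := by
  haveI : Fact (Nat.Prime 2) := ⟨Nat.prime_two⟩
  haveI := h.normal
  have hcQ : ∀ q ∈ Q, ∀ w ∈ W, q * w = w * q := by
    have h1 := CfsgLib.PGroup.inf_center_ne_bot h.pgroup (W.subgroupOf Q) (fun e => hW (by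
      rw [subgroupOf_eq_bot, disjoint_iff, inf_eq_left.2 hWQ] at e
      exact e))
    rcases hmin (W ⊓ centralizer (Q : Set G)) inferInstance inf_le_left with e | e
    · refine absurd (eq_bot_iff.2 fun w hw => ?_) h1
      rw [mem_bot]
      have h2 : (w : G) ∈ W ⊓ centralizer (Q : Set G) := ⟨hw.1, mem_centralizer_iff.2 fun q hq =>
        congrArg Subtype.val (mem_center_iff.1 hw.2 ⟨q, hq⟩)⟩
      rw [e, mem_bot] at h2
      exact Subtype.ext h2
    · intro q hq w hw
      exact mem_centralizer_iff.1 (e.symm ▸ hw : w ∈ W ⊓ centralizer (Q : Set G)).2 q hq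
  have hsq : ∀ w ∈ W, w * w = 1 := by
    let W2 : Subgroup G :=
      { carrier := {w | w ∈ W ∧ w * w = 1}
        one_mem' := ⟨one_mem W, one_mul 1⟩
        mul_mem' := fun {a b} ha hb => ⟨mul_mem ha.1 hb.1, by
          rw [(show Commute b a from hcQ b (hWQ hb.1) a ha.1).mul_mul_mul_comm, ha.2, hb.2, one_mul]⟩
        inv_mem' := fun {a} ha => ⟨inv_mem ha.1, by rw [← mul_inv_rev, ha.2, inv_one]⟩ }
    have hn : W2.Normal := ⟨fun a ha g => ⟨hWn.conj_mem a ha.1 g, by
      rw [show g * a * g⁻¹ * (g * a * g⁻¹) = g * (a * a) * g⁻¹ by group, ha.2]; simp⟩⟩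
    rcases hmin W2 hn (fun w hw => hw.1) with e | e
    · exfalso
      obtain ⟨k, hk⟩ := IsPGroup.iff_card.1 (h.pgroup.to_le hWQ)
      have hk0 : k ≠ 0 := fun h0 => hW (card_eq_one.1 (by rw [hk, h0, pow_zero]))
      obtain ⟨w, hw⟩ := exists_prime_orderOf_dvd_card' (G := W) 2 (hk ▸ dvd_pow_self 2 hk0)
      have hm : (w : G) ∈ W2 := ⟨w.2, by
        have := pow_orderOf_eq_one w
        rw [hw, pow_two] at this
        exact congrArg Subtype.val this⟩
      rw [e, mem_bot] at hm
      rw [show w = 1 from Subtype.ext hm, orderOf_one] at hw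
      omega
    · intro w hw
      exact (e.symm ▸ hw : w ∈ W2).2
  by_cases hact : ∃ g : G, ∃ a ∈ W, g * a ≠ a * g
  · exact Or.inr ⟨hWn, hWQ, hsq, hcQ, hact⟩
  · push Not at hact
    obtain ⟨w, hw, hw1⟩ := (W.ne_bot_iff_exists_ne_one).1 hW |> fun ⟨w, hw⟩ =>
      (⟨w, w.2, fun e => hw (Subtype.ext e)⟩ : ∃ w, w ∈ W ∧ w ≠ 1)
    have hn : (zpowers w).Normal := ⟨fun a ha g => by
      rw [hact g a (zpowers_le.2 hw ha), mul_inv_cancel_right]; exact ha⟩
    rcases hmin _ hn (zpowers_le.2 hw) with e | e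
    · exact absurd (zpowers_eq_bot.1 e) hw1
    · left
      rw [← e, Nat.card_zpowers]
      exact orderOf_eq_prime (by rw [pow_two]; exact hsq w hw) hw1

/-- Squares are insensitive to a central factor of order two. -/
theorem sq_mul_central {q x : G} (hc : Commute q x) (hx : x * x = 1) : q * x * (q * x) = q * q := by
  rw [hc.symm.mul_mul_mul_comm, hx, mul_one]

theorem card_saturated [P.Normal] (S : G → Prop) (hS : ∀ q, S q → ∀ x ∈ P, S (q * x)) :
    Nat.card P ∣ Nat.card {q // S q} := by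
  let T : Set (G ⧸ P) := {w | ∃ q, S q ∧ (q : G ⧸ P) = w}
  refine ⟨Nat.card T, ?_⟩
  rw [← Nat.card_prod]
  refine Nat.card_congr (Equiv.trans (Equiv.subtypeEquivRight fun q => ?_)
    (QuotientGroup.preimageMkEquivSubgroupProdSet P T))
  constructor
  · exact fun hq => ⟨q, hq, rfl⟩
  · rintro ⟨q', hq', e⟩
    simpa using hS q' hq' _ (QuotientGroup.eq.1 e)

/-- The elements outside `P` whose square lies in a central subgroup of order two. -/
theorem Rad.card_squares (h : Setup Q) (hR : Rad Q P) (N : Subgroup G) [N.Normal] (hN : N ≤ P)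
    (hN2 : Nat.card N = 2) (hP : Nat.card P = 4) :
    Nat.card {q : G // q ∈ Q ∧ q ∉ P ∧ q * q ∈ N} = 20 := by
  set mk := QuotientGroup.mk' N with hmk
  have hP2 : Nat.card (P.map mk) = 2 := by
    have e : (P.map mk).comap mk = P := by ext g; exact mem_map_mk hN
    have := card_comap_mk N (P.map mk)
    rw [← hmk, e, hP, hN2] at this
    omega
  have h10 := ((hR.quotient N hN).single (h.quotient N (hN.trans hR.le)) hP2).1
  let T : Set (G ⧸ N) := {w | w ∈ Q.map mk ∧ w ∉ P.map mk ∧ w * w = 1}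
  have hT : Nat.card T = 10 := h10
  rw [show 20 = Nat.card N * Nat.card T by rw [hN2, hT], ← Nat.card_prod]
  refine Nat.card_congr (Equiv.trans (Equiv.subtypeEquivRight fun q => ?_)
    (QuotientGroup.preimageMkEquivSubgroupProdSet N T))
  exact and_congr (mem_map_mk (hN.trans hR.le)).symm (and_congr (not_congr (mem_map_mk hN).symm)
    (QuotientGroup.eq_one_iff (q * q)).symm)

/-- The order four case is impossible. -/
theorem Rad.not_central_four (h : Setup Q) (hR : Rad Q P) (hP : Nat.card P = 4)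
    (hsqP : ∀ x ∈ P, x * x = 1) (hcen : ∀ g : G, ∀ x ∈ P, g * x = x * g) : False := by
  haveI := hR.normal
  haveI := h.normal
  haveI : Fact (Nat.Prime 5) := ⟨by norm_num⟩
  haveI : Fact (Nat.Prime 3) := ⟨by norm_num⟩
  obtain ⟨t, ht, htQ⟩ := h.exists_prime_elt (p := 5) (by norm_num) (by norm_num) (by norm_num)
  obtain ⟨r, hr, hrQ⟩ := h.exists_prime_elt (p := 3) (by norm_num) (by norm_num) (by norm_num)
  have ht1 : t ≠ 1 := fun e => htQ (e ▸ one_mem Q)
  have hr1 : r ≠ 1 := fun e => hrQ (e ▸ one_mem Q)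
  have htfix : ∀ q ∈ Q, t * q = q * t → q ∈ P := fun q hq e =>
    hR.fpf h htQ (by rw [ht]; exact one_mem Q) hq (by rw [e]; simp)
  have hconj : ∀ g : G, ∀ x ∈ P, g * x * g⁻¹ = x := fun g x hx =>
    mul_inv_eq_iff_eq_mul.2 (hcen g x hx)
  have hmulP : ∀ {q x : G}, q ∉ P → x ∈ P → q * x ∉ P := fun hq hx hm =>
    hq (by simpa using mul_mem hm (inv_mem hx))
  have hsqconj : ∀ g q : G, q ∈ Q → g * q * g⁻¹ * (g * q * g⁻¹) = q * q := fun g q hq => by
    rw [show g * q * g⁻¹ * (g * q * g⁻¹) = g * (q * q) * g⁻¹ by group]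
    exact hconj g _ (hR.sq q hq)
  have hnotP : ∀ {g q : G}, q ∉ P → g * q * g⁻¹ ∉ P := fun {g q} hq hm =>
    hq (by simpa [mul_assoc] using hR.normal.conj_mem _ hm g⁻¹)
  have hsub : ∀ x ∈ P, x ≠ 1 → (zpowers x).Normal ∧ Nat.card (zpowers x) = 2 ∧
      (zpowers x ≤ P) ∧ (∀ y, y ∈ zpowers x → y = 1 ∨ y = x) := fun x hx hx1 => by
    have hc : Nat.card (zpowers x) = 2 := by
      rw [Nat.card_zpowers]
      exact orderOf_eq_prime (by rw [pow_two]; exact hsqP x hx) hx1
    refine ⟨⟨fun a ha g => ?_⟩, hc, zpowers_le.2 hx, fun y hy => ?_⟩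
    · rw [hconj g a (zpowers_le.2 hx ha)]; exact ha
    · obtain ⟨w, -, hw1, -, hw⟩ := card_two_gen hc
      obtain rfl := (hw x (mem_zpowers x)).resolve_left hx1
      exact hw y hy
  have hI : ∀ q ∈ Q, q ∉ P → q * q ≠ 1 := by
    by_contra hne
    push Not at hne
    obtain ⟨q0, hq0, hq0P, hq01⟩ := hne
    set S : G → Prop := fun q => q ∈ Q ∧ q ∉ P ∧ q * q = 1 with hS
    have h4 : 4 ∣ Nat.card {q // S q} := hP ▸ card_saturated (P := P) S (fun q hq x hx =>
      ⟨mul_mem hq.1 (hR.le hx), hmulP hq.2.1 hx, by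
        rw [sq_mul_central (hcen q x hx) (hsqP x hx), hq.2.2]⟩)
    have hmod := card_modEq_commute (p := 5) ht ht1 S (fun g q hq =>
      ⟨h.normal.conj_mem q hq.1 g, hnotP hq.2.1, by rw [hsqconj g q hq.1, hq.2.2]⟩)
    haveI : IsEmpty {q // S q ∧ t * q = q * t} :=
      ⟨fun q => q.2.1.2.1 (htfix q q.2.1.1 q.2.2)⟩
    rw [Nat.card_of_isEmpty (α := {q // S q ∧ t * q = q * t})] at hmod
    have h5 : 5 ∣ Nat.card {q // S q} := Nat.modEq_zero_iff_dvd.1 hmod
    haveI : Nonempty {q // S q} := ⟨⟨q0, hq0, hq0P, hq01⟩⟩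
    have hpos : 0 < Nat.card {q // S q} := Nat.card_pos
    have hall : ∀ q ∈ Q, q * q = 1 := by
      intro q hq
      by_contra hq1
      have hqP : q ∉ P := fun hm => hq1 (hsqP q hm)
      obtain ⟨hn, hc, hle, hmem⟩ := hsub _ (hR.sq q hq) hq1
      haveI := hn
      have h20 := hR.card_squares h _ hle hc hP
      let f : {q' // S q'} ⊕ Unit → {q' : G // q' ∈ Q ∧ q' ∉ P ∧ q' * q' ∈ zpowers (q * q)} :=
        Sum.elim (fun q' => ⟨q', q'.2.1, q'.2.2.1, by rw [q'.2.2.2]; exact one_mem _⟩)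
          (fun _ => ⟨q, hq, hqP, mem_zpowers _⟩)
      have hf : Function.Injective f := by
        rintro (a | a) (b | b) e
        · exact congrArg Sum.inl (Subtype.ext (congrArg Subtype.val e :))
        · have e' : (a : G) = q := congrArg Subtype.val e
          exact absurd (e' ▸ a.2.2.2) hq1
        · have e' : (b : G) = q := (congrArg Subtype.val e).symm
          exact absurd (e' ▸ b.2.2.2) hq1
        · rfl
      have hle' := Nat.card_le_card_of_injective f hf
      rw [h20, Nat.card_sum, Nat.card_unique (α := Unit)] at hle'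
      omega
    have := hR.min ⊥ (fun q hq => mem_bot.2 (hall q hq))
    rw [le_bot_iff] at this
    rw [this, card_bot] at hP
    norm_num at hP
  -- the fixed points of an element of order three
  set F : G → Set G := fun n => {q | q ∈ Q ∧ q ∉ P ∧ q * q = n ∧ r * q = q * r} with hF
  have hFc : ∀ n ∈ P, n ≠ 1 → (F n).ncard = 8 := by
    intro n hn hn1
    obtain ⟨hnn, hc, hle, hmem⟩ := hsub n hn hn1
    haveI := hnn
    have h20 := hR.card_squares h _ hle hc hP
    set S : G → Prop := fun q => q ∈ Q ∧ q ∉ P ∧ q * q = n with hS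
    have hS20 : Nat.card {q // S q} = 20 := by
      rw [← h20]
      exact Nat.card_congr (Equiv.subtypeEquivRight fun q =>
        ⟨fun hq => ⟨hq.1, hq.2.1, hq.2.2.symm ▸ mem_zpowers n⟩,
          fun hq => ⟨hq.1, hq.2.1, (hmem _ hq.2.2).resolve_left (hI q hq.1 hq.2.1)⟩⟩)
    have hSconj : ∀ g q, S q → S (g * q * g⁻¹) := fun g q hq =>
      ⟨h.normal.conj_mem q hq.1 g, hnotP hq.2.1, by rw [hsqconj g q hq.1, hq.2.2]⟩
    have hmod := card_modEq_commute (p := 3) hr hr1 S hSconj
    have hle20 : Nat.card {q // S q ∧ r * q = q * r} ≤ Nat.card {q // S q} :=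
      Nat.card_le_card_of_injective (fun q => (⟨q.1, q.2.1⟩ : {q // S q}))
        (fun a b e => Subtype.ext (congrArg Subtype.val e :))
    have h4 : 4 ∣ Nat.card {q // S q ∧ r * q = q * r} := hP ▸ card_saturated (P := P)
      (fun q => S q ∧ r * q = q * r) (fun q hq x hx => ⟨⟨mul_mem hq.1.1 (hR.le hx),
        hmulP hq.1.2.1 hx, by rw [sq_mul_central (hcen q x hx) (hsqP x hx), hq.1.2.2]⟩,
        ((show Commute r q from hq.2).mul_right (hcen r x hx)).eq⟩)
    have hne20 : Nat.card {q // S q ∧ r * q = q * r} ≠ 20 := by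
      intro e20
      have hb : Function.Bijective (fun q => (⟨q.1, q.2.1⟩ : {q // S q}) :
          {q // S q ∧ r * q = q * r} → {q // S q}) :=
        (Nat.bijective_iff_injective_and_card _).2
          ⟨fun a b e => Subtype.ext (congrArg Subtype.val e :), by rw [e20, hS20]⟩
      have hall : ∀ q, S q → r * q = q * r := fun q hq => by
        obtain ⟨a, ha⟩ := hb.2 ⟨q, hq⟩
        obtain rfl : a.1 = q := congrArg Subtype.val ha
        exact a.2.2
      let K : Subgroup G :=
        { carrier := {g | ∀ q, S q → g * q * g⁻¹ * q⁻¹ ∈ P}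
          one_mem' := fun q _ => by simp
          mul_mem' := fun {a b} ha hb q hq => by
            rw [show a * b * q * (a * b)⁻¹ * q⁻¹ =
              a * (b * q * b⁻¹) * a⁻¹ * (b * q * b⁻¹)⁻¹ * (b * q * b⁻¹ * q⁻¹) by group]
            exact mul_mem (ha _ (hSconj b q hq)) (hb q hq)
          inv_mem' := fun {a} ha q hq => by
            have := inv_mem (ha _ (hSconj a⁻¹ q hq))
            rw [show a⁻¹ * q * a⁻¹⁻¹ * q⁻¹ = (a * (a⁻¹ * q * a⁻¹⁻¹) * a⁻¹ * (a⁻¹ * q * a⁻¹⁻¹)⁻¹)⁻¹ by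
              group]
            exact this }
      haveI : K.Normal := ⟨fun a ha g q hq => by
        have h1 := hR.normal.conj_mem _ (ha _ (hSconj g⁻¹ q hq)) g
        rwa [show g * (a * (g⁻¹ * q * g⁻¹⁻¹) * a⁻¹ * (g⁻¹ * q * g⁻¹⁻¹)⁻¹) * g⁻¹ =
          g * a * g⁻¹ * q * (g * a * g⁻¹)⁻¹ * q⁻¹ by group] at h1⟩
      have hK := h.eq_top K (fun g hg q hq => hR.comm hg hq.1)
        (g := r) (fun q hq => by rw [hall q hq]; simp) hrQ
      haveI : Nonempty {q // S q} := (Nat.card_pos_iff.1 (by rw [hS20]; norm_num)).1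
      obtain ⟨q, hq⟩ := Classical.arbitrary {q // S q}
      exact hq.2.1 (hR.fpf h htQ (by rw [ht]; exact one_mem Q) hq.1
        ((hK ▸ mem_top t : t ∈ K) q hq))
    rw [← Nat.card_coe_set_eq]
    have e : Nat.card (F n) = Nat.card {q // S q ∧ r * q = q * r} :=
      Nat.card_congr (Equiv.subtypeEquivRight fun q =>
        ⟨fun hq => ⟨⟨hq.1, hq.2.1, hq.2.2.1⟩, hq.2.2.2⟩, fun hq => ⟨hq.1.1, hq.1.2.1, hq.1.2.2, hq.2⟩⟩)
    rw [e]
    rw [hS20] at hmod hle20
    unfold Nat.ModEq at hmod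
    omega
  set C := Q ⊓ centralizer ({r} : Set G) with hC
  obtain ⟨a, b, c, hab, hac, hbc, hPset⟩ : ∃ a b c : G, a ≠ b ∧ a ≠ c ∧ b ≠ c ∧
      (P : Set G) \ {1} = {a, b, c} := by
    refine Set.ncard_eq_three.1 ?_
    rw [Set.ncard_sdiff_singleton_of_mem (one_mem P), ← Nat.card_coe_set_eq,
      show Nat.card (P : Set G) = Nat.card P from rfl, hP]
  have hmem : ∀ x, (x = a ∨ x = b ∨ x = c) ↔ (x ∈ P ∧ x ≠ 1) := fun x => by
    have := Set.ext_iff.1 hPset x
    simpa using this.symm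
  have hCset : (C : Set G) = (P : Set G) ∪ (F a ∪ F b ∪ F c) := by
    ext q
    simp only [hF, Set.mem_union, SetLike.mem_coe, Set.mem_ofPred_eq]
    constructor
    · intro hq
      have hqr : r * q = q * r := (mem_centralizer_singleton_iff.1 hq.2).symm
      by_cases hqP : q ∈ P
      · exact Or.inl hqP
      · right
        rcases (hmem (q * q)).2 ⟨hR.sq q hq.1, hI q hq.1 hqP⟩ with e | e | e
        · exact Or.inl (Or.inl ⟨hq.1, hqP, e, hqr⟩)
        · exact Or.inl (Or.inr ⟨hq.1, hqP, e, hqr⟩)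
        · exact Or.inr ⟨hq.1, hqP, e, hqr⟩
    · rintro (hq | (hq | hq) | hq)
      · exact ⟨hR.le hq, mem_centralizer_singleton_iff.2 (hcen r q hq).symm⟩
      all_goals exact ⟨hq.1, mem_centralizer_singleton_iff.2 hq.2.2.2.symm⟩
  have hd : ∀ {m n : G}, m ≠ n → Disjoint (F m) (F n) := fun hmn =>
    Set.disjoint_left.2 fun q h1 h2 => hmn (h1.2.2.1.symm.trans h2.2.2.1)
  have hdP : ∀ n, Disjoint (P : Set G) (F n) := fun n =>
    Set.disjoint_left.2 fun q h1 h2 => h2.2.1 h1
  have h28 : (C : Set G).ncard = 28 := by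
    rw [hCset, Set.ncard_union_eq ((hdP a).union_right (hdP b) |>.union_right (hdP c))
        (Set.toFinite _) (Set.toFinite _),
      Set.ncard_union_eq ((hd hac).union_left (hd hbc)) (Set.toFinite _) (Set.toFinite _),
      Set.ncard_union_eq (hd hab) (Set.toFinite _) (Set.toFinite _),
      hFc a ((hmem a).1 (Or.inl rfl)).1 ((hmem a).1 (Or.inl rfl)).2,
      hFc b ((hmem b).1 (Or.inr (Or.inl rfl))).1 ((hmem b).1 (Or.inr (Or.inl rfl))).2,
      hFc c ((hmem c).1 (Or.inr (Or.inr rfl))).1 ((hmem c).1 (Or.inr (Or.inr rfl))).2,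
      ← Nat.card_coe_set_eq, show Nat.card (P : Set G) = Nat.card P from rfl, hP]
  have hdvd : Nat.card C ∣ Nat.card Q := card_dvd_of_le inf_le_left
  rw [hR.card h, hP, show Nat.card C = (C : Set G).ncard from Nat.card_coe_set_eq (C : Set G), h28]
    at hdvd
  norm_num at hdvd

/-- A maximal normal subgroup gives a minimal normal subgroup of the quotient. -/
theorem minimal_of_maximal {M : Subgroup G} [M.Normal] (hMP : M < P)
    (hmax : ∀ U : Subgroup G, U.Normal → U < P → M ≤ U → U = M) :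
    P.map (QuotientGroup.mk' M) ≠ ⊥ ∧
      ∀ U : Subgroup (G ⧸ M), U.Normal → U ≤ P.map (QuotientGroup.mk' M) →
        U = ⊥ ∨ U = P.map (QuotientGroup.mk' M) := by
  refine ⟨fun e => hMP.not_ge fun x hx => mk_eq_one.1 (mem_bot.1 (e ▸ mem_map_of_mem _ hx)),
    fun U hU hUP => ?_⟩
  have hle : U.comap (QuotientGroup.mk' M) ≤ P := fun x hx => (mem_map_mk hMP.le).1 (hUP hx)
  have hMU : M ≤ U.comap (QuotientGroup.mk' M) := fun x hx => by
    rw [mem_comap, mk_eq_one.2 hx]; exact one_mem U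
  rcases eq_or_lt_of_le hle with e | e
  · right
    rw [← e, map_comap_eq_self_of_surjective (QuotientGroup.mk'_surjective M)]
  · left
    rw [← map_comap_eq_self_of_surjective (QuotientGroup.mk'_surjective M) U,
      hmax _ (hU.comap _) e hMU, Subgroup.map_eq_bot_iff, QuotientGroup.ker_mk']

/-- `P` of order two over a minimal normal subgroup is impossible. -/
theorem Rad.not_two_layers (h : Setup Q) (hR : Rad Q P) [W.Normal] (hWP : W ≤ P) (hW : W ≠ ⊥)
    (hidx : Nat.card P = 2 * Nat.card W)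
    (hmin : ∀ U : Subgroup G, U.Normal → U ≤ W → U = ⊥ ∨ U = W) : False := by
  haveI := hR.normal
  haveI := h.normal
  have hWQ := hWP.trans hR.le
  set mk := QuotientGroup.mk' W with hmk
  have hP2 : Nat.card (P.map mk) = 2 := by
    have e : (P.map mk).comap mk = P := by ext g; exact mem_map_mk hWP
    have := card_comap_mk W (P.map mk)
    rw [← hmk, e, hidx, mul_comm] at this
    exact (Nat.eq_of_mul_eq_mul_left Nat.card_pos this).symm
  haveI : (P.map mk).Normal := hR.normal.map mk (QuotientGroup.mk'_surjective W)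
  obtain ⟨z', hz', hz'1, hz'2, hzc⟩ := card_two_gen hP2
  obtain ⟨z, hzP, rfl⟩ := mem_map.1 hz'
  have hzW : z ∉ W := fun e => hz'1 (mk_eq_one.2 e)
  have hcases : ∀ x ∈ P, x ∈ W ∨ x * z⁻¹ ∈ W := fun x hx => by
    rcases hzc _ (mem_map_of_mem mk hx) with e | e
    · exact Or.inl (mk_eq_one.1 e)
    · exact Or.inr (mk_eq_one.1 (by rw [map_mul, map_inv]; exact mul_inv_eq_one.2 e))
  have hgz : ∀ g : G, g * z * g⁻¹ * z⁻¹ ∈ W := fun g => by
    refine mk_eq_one.1 ?_
    rw [← hmk, map_mul, map_mul, map_mul, map_inv, map_inv,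
      central_of_card_two hP2 _ (mem_map_of_mem mk hzP)]
    group
  have hzz : z * z ∈ W := mk_eq_one.1 (by rw [map_mul]; exact hz'2)
  have hWsq : ∀ w ∈ W, w * w = 1 := by
    rcases minimal_two h hWQ hW hmin with h2 | hM
    · obtain ⟨w, -, -, hw2, hwc⟩ := card_two_gen h2
      intro x hx
      rcases hwc x hx with rfl | rfl <;> simp [hw2]
    · exact hM.sq
  have hcQ : ∀ q ∈ Q, ∀ w ∈ W, q * w = w * q := by
    rcases minimal_two h hWQ hW hmin with h2 | hM
    · exact fun q _ w hw => central_of_card_two h2 q hw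
    · exact hM.cQ
  have hsqz : ∀ g : G, g * (z * z) * g⁻¹ = z * z := fun g => by
    have hw := hgz g
    set w := g * z * g⁻¹ * z⁻¹ with hwd
    have e : g * (z * z) * g⁻¹ = (w * z) * (w * z) := by rw [hwd]; group
    rw [e, (show Commute z w from hcQ z (hR.le hzP) w hw).mul_mul_mul_comm, hWsq w hw, one_mul]
  have hPsq : z * z = 1 → ∀ x ∈ P, x * x = 1 := fun hz2 x hx => by
    rcases hcases x hx with e | e
    · exact hWsq x e
    · have hx' : x = x * z⁻¹ * z := by group
      rw [hx', (show Commute z (x * z⁻¹) from hcQ z (hR.le hzP) _ e).mul_mul_mul_comm, hWsq _ e, hz2,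
        one_mul]
  rcases minimal_two h hWQ hW hmin with h2 | hM
  swap
  · have hz2 : z * z = 1 := hM.fixed h hzz fun g => mul_inv_eq_iff_eq_mul.1 (hsqz g)
    obtain ⟨j, hj, hj'⟩ := card_elem h.rank (A := P) (hPsq hz2)
    rw [hidx, hM.card h] at hj'
    interval_cases j <;> omega
  · have hWc : ∀ g : G, ∀ w ∈ W, g * w = w * g := fun g w hw => central_of_card_two h2 g hw
    have hP4 : Nat.card P = 4 := by omega
    obtain ⟨w0, hw0, hw01, -, hwc⟩ := card_two_gen h2
    -- `P` is central in `Q`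
    let K := Q ⊓ centralizer ({z} : Set G)
    haveI : K.Normal := ⟨fun k hk g => by
      refine ⟨h.normal.conj_mem k hk.1 g, mem_centralizer_singleton_iff.2 ?_⟩
      have hw := hgz g
      set w := g * z * g⁻¹ * z⁻¹ with hwd
      have hc2 : g * k * g⁻¹ * (g * z * g⁻¹) = g * z * g⁻¹ * (g * k * g⁻¹) := by
        rw [show g * k * g⁻¹ * (g * z * g⁻¹) = g * (k * z) * g⁻¹ by group,
          mem_centralizer_singleton_iff.1 hk.2]
        group
      rw [show g * z * g⁻¹ = w * z by rw [hwd]; group, ← mul_assoc,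
        hWc (g * k * g⁻¹) w hw, mul_assoc w, mul_assoc w] at hc2
      exact mul_left_cancel hc2⟩
    have hPK : P ≤ K := fun x hx => ⟨hR.le hx, mem_centralizer_singleton_iff.2 (by
      rcases hcases x hx with e | e
      · exact (hWc z x e).symm
      · rw [show x = x * z⁻¹ * z by group]
        exact ((show Commute (x * z⁻¹) z from (hWc z _ e).symm).mul_left (Commute.refl z)).eq)⟩
    have hKQ : K = Q := by
      refine (hR.between h K hPK inf_le_left).resolve_left fun e => hR.coset_bound h ?_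
      intro a ha haP b hb hbP
      refine e ▸ (⟨mul_mem ha hb, mem_centralizer_singleton_iff.2 ?_⟩ : a * b ∈ K)
      have hh : ∀ q ∈ Q, q ∉ P → q * z = w0 * (z * q) := fun q hq hqP => by
        have hw := hgz q
        rcases hwc _ hw with e1 | e1
        · exact absurd (e ▸ (⟨hq, mem_centralizer_singleton_iff.2
            (mul_inv_eq_iff_eq_mul.1 (mul_inv_eq_one.1 e1))⟩ : q ∈ K)) hqP
        · rw [← e1]; group
      calc a * b * z = a * (w0 * (z * b)) := by rw [mul_assoc, hh b hb hbP]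
        _ = w0 * (a * z) * b := by rw [← mul_assoc a w0, hWc a w0 hw0]; group
        _ = w0 * w0 * (z * (a * b)) := by rw [hh a ha haP]; group
        _ = z * (a * b) := by rw [hWsq w0 hw0, one_mul]
    have hQP : ∀ q ∈ Q, ∀ x ∈ P, q * x = x * q := fun q hq x hx => by
      rcases hcases x hx with e | e
      · exact hWc q x e
      · rw [show x = x * z⁻¹ * z by group]
        exact ((show Commute q (x * z⁻¹) from hWc q _ e).mul_right
          (mem_centralizer_singleton_iff.1 (hKQ.symm ▸ hq : q ∈ K).2)).eq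
    have hcen : ∀ g : G, ∀ x ∈ P, g * x = x * g := by
      obtain ⟨t, ht, htQ⟩ := h.exists_prime_elt (p := 5) (by norm_num) (by norm_num) (by norm_num)
      have htz : t * z * t⁻¹ = z := by
        rcases hwc _ (hgz t) with e | e
        · exact mul_inv_eq_one.1 e
        · exfalso
          have e1 : t * z * t⁻¹ = w0 * z := by rw [← e]; group
          have hi : ∀ n : ℕ, t ^ n * z * (t ^ n)⁻¹ = w0 ^ n * z := by
            intro n
            induction n with
            | zero => simp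
            | succ n ih =>
              rw [pow_succ', show t * t ^ n * z * (t * t ^ n)⁻¹ = t * (t ^ n * z * (t ^ n)⁻¹) * t⁻¹ by
                group, ih, show t * (w0 ^ n * z) * t⁻¹ = t * w0 ^ n * (t⁻¹ * (t * z * t⁻¹)) by group,
                e1, hWc t _ (pow_mem hw0 n)]
              rw [pow_succ]
              group
          have h5 := hi 5
          rw [ht] at h5
          rw [one_mul, inv_one, mul_one, show w0 ^ 5 = w0 * w0 * (w0 * w0) * w0 by simp [pow_succ, mul_assoc],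
            hWsq w0 hw0, one_mul, one_mul] at h5
          exact hw01 (mul_eq_right.1 h5.symm)
      intro g x hx
      have := h.eq_top (centralizer (P : Set G))
        (fun q hq => mem_centralizer_iff.2 fun y hy => (hQP q hq y hy).symm) (g := t)
        (mem_centralizer_iff.2 fun y hy => ?_) htQ
      · exact (mem_centralizer_iff.1 (this ▸ mem_top g : g ∈ centralizer (P : Set G)) x hx).symm
      · rcases hcases y hy with e | e
        · exact (hWc t y e).symm
        · rw [show y = y * z⁻¹ * z by group]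
          exact (((show Commute (y * z⁻¹) t from (hWc t _ e).symm)).mul_left
            (show Commute z t from (mul_inv_eq_iff_eq_mul.1 htz).symm)).eq
    -- `P` is elementary
    refine hR.not_central_four h hP4 (hPsq ?_) hcen
    rcases hwc _ hzz with e | e
    · exact e
    exfalso
    obtain ⟨x', hx', y', hy', hne⟩ := (hR.quotient W hWP).exists_noncomm (h.quotient W hWQ) hP2
    obtain ⟨x, hx, rfl⟩ := mem_map.1 hx'
    obtain ⟨y, hy, rfl⟩ := mem_map.1 hy'
    have hc := hR.comm hx hy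
    set c := x * y * x⁻¹ * y⁻¹ with hcd
    clear_value c
    have hcW : c ∉ W := fun hm => hne (by
      have h1 := mk_eq_one.2 hm
      rw [hcd, map_mul, map_mul, map_mul, map_inv, map_inv] at h1
      exact mul_inv_eq_iff_eq_mul.1 (mul_inv_eq_one.1 h1))
    have hd := (hcases c hc).resolve_left hcW
    have hc2 : c * c = 1 := by
      have h1 : x * x * y * (x * x)⁻¹ = y := mul_inv_eq_iff_eq_mul.2 (hQP y hy _ (hR.sq x hx)).symm
      have hxy : x * y * x⁻¹ = c * y := by rw [hcd]; group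
      have hxc : x * c * x⁻¹ = c := mul_inv_eq_iff_eq_mul.2 (hQP x hx c hc)
      have h2 : x * x * y * (x * x)⁻¹ = c * c * y :=
        calc x * x * y * (x * x)⁻¹ = x * (x * y * x⁻¹) * x⁻¹ := by group
          _ = x * (c * y) * x⁻¹ := by rw [hxy]
          _ = x * c * x⁻¹ * (x * y * x⁻¹) := by group
          _ = c * c * y := by rw [hxc, hxy, mul_assoc]
      rw [h1] at h2
      exact mul_eq_right.1 h2.symm
    rw [show c = c * z⁻¹ * z by group,
      (show Commute z (c * z⁻¹) from hcQ z (hR.le hzP) _ hd).mul_mul_mul_comm, hWsq _ hd, one_mul,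
      e] at hc2
    exact hw01 hc2

/-- The radical of an extension by the alternating group of degree five. -/
theorem Rad.main (h : Setup Q) (hR : Rad Q P) :
    (Nat.card Q = 16 ∧ ∀ q ∈ Q, q * q = 1) ∨ IsQD Q := by
  haveI := hR.normal
  haveI := h.normal
  by_cases hP : P = ⊥
  · left
    exact ⟨by rw [hR.card h, hP, card_bot], fun q hq => mem_bot.1 (hP ▸ hR.sq q hq)⟩
  right
  obtain ⟨M0, -, hM0⟩ := Finite.exists_le_maximal (p := fun M : Subgroup G => M.Normal ∧ M < P)
    (a := ⊥) ⟨inferInstance, bot_lt_iff_ne_bot.2 hP⟩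
  haveI := hM0.prop.1
  have hmax0 : ∀ U : Subgroup G, U.Normal → U < P → M0 ≤ U → U = M0 := fun U hU hlt hle =>
    le_antisymm (hM0.le_of_ge ⟨hU, hlt⟩ hle) hle
  have hidx : Nat.card P = 2 * Nat.card M0 := by
    have hle := hM0.prop.2.le
    have hS := h.quotient M0 (hle.trans hR.le)
    have hR' := hR.quotient M0 hle
    haveI := hR'.normal
    obtain ⟨hne, hmin⟩ := minimal_of_maximal hM0.prop.2 hmax0
    have h2 : Nat.card (P.map (QuotientGroup.mk' M0)) = 2 := by
      rcases minimal_two hS hR'.le hne hmin with h2 | hM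
      · exact h2
      · exact (layer_sixteen hS hM hR'.sq hR'.act).elim
    have e : (P.map (QuotientGroup.mk' M0)).comap (QuotientGroup.mk' M0) = P := by
      ext g; exact mem_map_mk hle
    rw [← e, card_comap_mk, h2, mul_comm]
  by_cases hM0b : M0 = ⊥
  · exact (hR.single h (by rw [hidx, hM0b, card_bot])).2
  exfalso
  obtain ⟨M, -, hM⟩ := Finite.exists_le_maximal (p := fun M : Subgroup G => M.Normal ∧ M < M0)
    (a := ⊥) ⟨inferInstance, bot_lt_iff_ne_bot.2 hM0b⟩
  haveI := hM.prop.1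
  have hMP : M ≤ P := hM.prop.2.le.trans hM0.prop.2.le
  obtain ⟨hne, hmin⟩ := minimal_of_maximal hM.prop.2 (fun U hU hlt hle =>
    le_antisymm (hM.le_of_ge ⟨hU, hlt⟩ hle) hle)
  haveI : (M0.map (QuotientGroup.mk' M)).Normal :=
    hM0.prop.1.map _ (QuotientGroup.mk'_surjective M)
  refine (hR.quotient M hMP).not_two_layers (h.quotient M (hMP.trans hR.le))
    (map_mono hM0.prop.2.le) hne ?_ hmin
  have e1 : (P.map (QuotientGroup.mk' M)).comap (QuotientGroup.mk' M) = P := by
    ext g; exact mem_map_mk hMP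
  have e2 : (M0.map (QuotientGroup.mk' M)).comap (QuotientGroup.mk' M) = M0 := by
    ext g; exact mem_map_mk hM.prop.2.le
  rw [← e1, ← e2, card_comap_mk, card_comap_mk, mul_left_comm] at hidx
  exact Nat.eq_of_mul_eq_mul_left Nat.card_pos hidx

end CfsgLib.RankFourA5
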