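import Cfsg.Agent.Lib.ThreePrimes.Irreducible
import Cfsg.Prelude.Def_CaseTheorems

/-!
Elementary abelian normal subgroups of a group of sectional `2`-rank at most four which is an
extension of a `2`-group by the alternating group of degree five.
-/

set_option autoImplicit false
set_option linter.unusedSectionVars false
set_option linter.style.haveILetI false

open scoped Classical

namespace CfsgLib.RankFourA5

open Subgroup

variable {G : Type*} [Group G] {Q A W : Subgroup G}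

/-- No elementary abelian section of order `32`. -/
def NoSection (G : Type*) [Group G] : Prop :=
  ∀ H N : Subgroup G, N ≤ H → (∀ h ∈ H, ∀ x ∈ N, h * x * h⁻¹ ∈ N) →
    (∀ u ∈ H, ∀ v ∈ H, u * v * u⁻¹ * v⁻¹ ∈ N) → (∀ u ∈ H, u * u ∈ N) →
      Nat.card H < 32 * Nat.card N

/-- A `2`-group `Q` extended by the alternating group of degree five. -/
structure Setup (Q : Subgroup G) : Prop where
  quot : ∃ π : G →* alternatingGroup (Fin 5), Function.Surjective π ∧ π.ker = Q
  pgroup : IsPGroup 2 Q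
  rank : NoSection G

/-- A nontrivial module inside the group. -/
structure Mod (Q A : Subgroup G) : Prop where
  normal : A.Normal
  le : A ≤ Q
  sq : ∀ a ∈ A, a * a = 1
  cQ : ∀ q ∈ Q, ∀ a ∈ A, q * a = a * q
  act : ∃ g : G, ∃ a ∈ A, g * a ≠ a * g

theorem Setup.normal (h : Setup Q) : Q.Normal := by
  obtain ⟨π, _, rfl⟩ := h.quot
  infer_instance

theorem Setup.normal_cases (h : Setup Q) (K : Subgroup G) [hK : K.Normal] (hQK : Q ≤ K) :
    K = Q ∨ K = ⊤ := by
  obtain ⟨π, hπ, hker⟩ := h.quot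
  haveI : IsSimpleGroup (alternatingGroup (Fin 5)) := alternatingGroup.isSimpleGroup (by simp)
  rcases IsSimpleGroup.eq_bot_or_eq_top_of_normal (K.map π) (hK.map π hπ) with h1 | h1
  · exact Or.inl (le_antisymm (hker ▸ (map_eq_bot_iff K).1 h1) hQK)
  · refine Or.inr (eq_top_iff.2 fun g _ => ?_)
    obtain ⟨k, hk, hkg⟩ := mem_map.1 (h1 ▸ mem_top (π g) : π g ∈ K.map π)
    have h2 : k⁻¹ * g ∈ π.ker := by rw [MonoidHom.mem_ker, map_mul, map_inv, hkg, inv_mul_cancel]
    have h3 := mul_mem hk (hQK (hker ▸ h2))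
    rwa [mul_inv_cancel_left] at h3

/-- A normal subgroup containing `Q` and something outside is everything. -/
theorem Setup.eq_top (h : Setup Q) (K : Subgroup G) [K.Normal] (hQK : Q ≤ K) {g : G} (hg : g ∈ K)
    (hgQ : g ∉ Q) : K = ⊤ :=
  (h.normal_cases K hQK).resolve_left fun e => hgQ (e ▸ hg)

theorem Setup.exists_prime_elt [Finite G] (h : Setup Q) {p : ℕ} (hp : p.Prime) (hd : p ∣ 60)
    (hp2 : p ≠ 2) : ∃ t : G, t ^ p = 1 ∧ t ∉ Q := by
  haveI := Fact.mk hp
  obtain ⟨π, hπ, hker⟩ := h.quot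
  have h60 : p ∣ Nat.card G := by
    refine (dvd_trans ?_ (card_dvd_of_surjective π hπ))
    rw [nat_card_alternatingGroup, Nat.card_fin]
    exact hd
  obtain ⟨t, ht⟩ := exists_prime_orderOf_dvd_card' (G := G) p h60
  refine ⟨t, by rw [← ht]; exact pow_orderOf_eq_one t, fun htQ => ?_⟩
  obtain ⟨k, hk⟩ := (IsPGroup.iff_orderOf.1 h.pgroup) ⟨t, htQ⟩
  rw [← orderOf_coe, ht] at hk
  rcases Nat.eq_zero_or_pos k with rfl | hk0
  · exact hp.ne_one (by simpa using hk)
  · exact hp2 ((Nat.prime_dvd_prime_iff_eq hp Nat.prime_two).1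
      (hp.dvd_of_dvd_pow (dvd_of_eq hk)))

theorem Setup.not_mem_of_sq [Finite G] (h : Setup Q) {u : G} (hu : u ∉ Q) (huu : u * u ∈ Q) :
    ∃ g : G, (u * (g * u * g⁻¹)) ∉ Q ∧ (u * (g * u * g⁻¹)) ^ 5 ∈ Q := by
  obtain ⟨π, hπ, hker⟩ := h.quot
  have key : ∀ s : Equiv.Perm (Fin 5), Equiv.Perm.sign s = 1 → s ≠ 1 → s * s = 1 →
      ∃ c : Equiv.Perm (Fin 5), Equiv.Perm.sign c = 1 ∧ s * (c * s * c⁻¹) ≠ 1 ∧
        (s * (c * s * c⁻¹)) ^ 5 = 1 := by
    decide +kernel
  obtain ⟨c, hc, hc1, hc5⟩ := key (π u).1 (π u).2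
    (fun e => hu (hker ▸ (MonoidHom.mem_ker.2 (Subtype.ext e))))
    (by
      have : π (u * u) = 1 := MonoidHom.mem_ker.1 (by rw [hker]; exact huu)
      rw [map_mul] at this
      exact congrArg Subtype.val this)
  obtain ⟨g, hg⟩ := hπ ⟨c, hc⟩
  refine ⟨g, fun hm => hc1 ?_, ?_⟩
  · rw [← hker, MonoidHom.mem_ker, map_mul, map_mul, map_mul, map_inv, hg] at hm
    exact congrArg Subtype.val hm
  · rw [← hker, MonoidHom.mem_ker, map_pow, map_mul, map_mul, map_mul, map_inv, hg]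
    exact Subtype.ext hc5

theorem Setup.exists_involution [Finite G] (h : Setup Q) : ∃ u : G, u ∉ Q ∧ u * u ∈ Q := by
  obtain ⟨π, hπ, hker⟩ := h.quot
  have key : ∃ s : Equiv.Perm (Fin 5), Equiv.Perm.sign s = 1 ∧ s ≠ 1 ∧ s * s = 1 :=
    ⟨Equiv.swap 0 1 * Equiv.swap 2 3, by decide +kernel⟩
  obtain ⟨s, hs, hs1, hs2⟩ := key
  obtain ⟨u, hu⟩ := hπ ⟨s, hs⟩
  refine ⟨u, fun hm => hs1 ?_, ?_⟩
  · rw [← hker, MonoidHom.mem_ker, hu] at hm
    exact congrArg Subtype.val hm
  · rw [← hker, MonoidHom.mem_ker, map_mul, hu]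
    exact Subtype.ext hs2

theorem card_comap_mk (N : Subgroup G) [N.Normal] (K : Subgroup (G ⧸ N)) :
    Nat.card (K.comap (QuotientGroup.mk' N)) = Nat.card N * Nat.card K := by
  rw [← Nat.card_prod]
  exact Nat.card_congr (QuotientGroup.preimageMkEquivSubgroupProdSet N (K : Set (G ⧸ N)))

theorem NoSection.quotient [Finite G] (h : NoSection G) (N : Subgroup G) [N.Normal] :
    NoSection (G ⧸ N) := by
  intro H M hMH hn hc hs
  have := h (H.comap (QuotientGroup.mk' N)) (M.comap (QuotientGroup.mk' N)) (comap_mono hMH)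
    (fun a ha x hx => by
      simp only [mem_comap, map_mul, map_inv] at ha hx ⊢; exact hn _ ha _ hx)
    (fun a ha b hb => by
      simp only [mem_comap, map_mul, map_inv] at ha hb ⊢; exact hc _ ha _ hb)
    (fun a ha => by simp only [mem_comap, map_mul] at ha ⊢; exact hs _ ha)
  rw [card_comap_mk, card_comap_mk, ← mul_assoc, mul_comm 32, mul_assoc] at this
  exact Nat.lt_of_mul_lt_mul_left this

theorem Setup.quotient [Finite G] (h : Setup Q) (N : Subgroup G) [N.Normal] (hN : N ≤ Q) :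
    Setup (Q.map (QuotientGroup.mk' N)) := by
  refine ⟨?_, h.pgroup.map _, h.rank.quotient N⟩
  obtain ⟨π, hπ, hker⟩ := h.quot
  refine ⟨QuotientGroup.lift N π (fun x hx => MonoidHom.mem_ker.1 (by rw [hker]; exact hN hx)),
    fun a => ?_, ?_⟩
  · obtain ⟨g, rfl⟩ := hπ a
    exact ⟨g, rfl⟩
  · ext q
    induction q using QuotientGroup.induction_on with
    | _ g =>
      constructor
      · intro hg
        exact mem_map.2 ⟨g, hker ▸ (hg : π g = 1), rfl⟩
      · intro hg
        obtain ⟨x, hx, hxg⟩ := mem_map.1 hg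
        rw [← hxg]
        show π x = 1
        exact MonoidHom.mem_ker.1 (by rw [hker]; exact hx)

theorem mem_map_mk {N : Subgroup G} [N.Normal] (hN : N ≤ Q) {g : G} :
    (g : G ⧸ N) ∈ Q.map (QuotientGroup.mk' N) ↔ g ∈ Q := by
  constructor
  · intro hg
    obtain ⟨x, hx, hxg⟩ := mem_map.1 hg
    have := QuotientGroup.eq.1 (hxg : (x : G ⧸ N) = g)
    simpa using mul_mem hx (hN this)
  · exact fun hg => mem_map.2 ⟨g, hg, rfl⟩

section Elementary

theorem comm_of_sq (hsq : ∀ a ∈ A, a * a = 1) {a b : G} (ha : a ∈ A) (hb : b ∈ A) :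
    a * b = b * a := by
  have h1 := hsq _ (mul_mem ha hb)
  have ha' : a⁻¹ = a := inv_eq_of_mul_eq_one_right (hsq a ha)
  have hb' : b⁻¹ = b := inv_eq_of_mul_eq_one_right (hsq b hb)
  rw [← inv_eq_of_mul_eq_one_right h1, mul_inv_rev, ha', hb']

variable [Finite G]

theorem card_elem (h : NoSection G) (hsq : ∀ a ∈ A, a * a = 1) :
    ∃ j, j ≤ 4 ∧ Nat.card A = 2 ^ j := by
  haveI : Fact (Nat.Prime 2) := ⟨Nat.prime_two⟩
  have hp : IsPGroup 2 A := fun a => ⟨1, Subtype.ext (by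
    rw [pow_one, pow_two]; exact hsq a a.2)⟩
  obtain ⟨j, hj⟩ := IsPGroup.iff_card.1 hp
  refine ⟨j, ?_, hj⟩
  have := h A ⊥ bot_le (fun g _ x hx => by simp [mem_bot.1 hx])
    (fun u hu v hv => by rw [mem_bot, comm_of_sq hsq hu hv]; group)
    (fun u hu => mem_bot.2 (hsq u hu))
  rw [hj, card_bot] at this
  by_contra hlt
  have h32 : 2 ^ 5 ≤ 2 ^ j := Nat.pow_le_pow_right (by norm_num) (by omega)
  omega

end Elementary

section ModLemmas

variable [Finite G]

theorem Mod.centralizer_eq (h : Setup Q) (hm : Mod Q A) {g : G} :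
    (∀ a ∈ A, g * a = a * g) ↔ g ∈ Q := by
  haveI := hm.normal
  refine ⟨fun hg => ?_, fun hg a ha => hm.cQ g hg a ha⟩
  rcases h.normal_cases (centralizer (A : Set G))
    (fun q hq => mem_centralizer_iff.2 fun a ha => (hm.cQ q hq a ha).symm) with e | e
  · exact e ▸ mem_centralizer_iff.2 fun a ha => (hg a ha).symm
  · obtain ⟨x, a, ha, hne⟩ := hm.act
    exact absurd (mem_centralizer_iff.1 (e ▸ mem_top x : x ∈ centralizer (A : Set G)) a ha).symm hne

theorem Mod.five (h : Setup Q) (hm : Mod Q A) {t : G} (ht : t ∉ Q) (ht5 : t ^ 5 ∈ Q) :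
    Nat.card A = 16 ∧ ∀ a ∈ A, t * a = a * t → a = 1 := by
  haveI := hm.normal
  haveI : Fact (Nat.Prime 5) := ⟨by norm_num⟩
  have heq : ∀ (g : G) (a : A), MulAut.conjNormal g a = a ↔ g * a = a * g := fun g a => by
    rw [Subtype.ext_iff, MulAut.conjNormal_apply, mul_inv_eq_iff_eq_mul]
  set θ : MulAut A := MulAut.conjNormal t with hθ
  have h5 : θ ^ 5 = 1 := MulEquiv.ext fun a => by
    rw [hθ, ← map_pow]; exact (heq _ a).2 (hm.cQ _ ht5 a a.2)
  have h1 : θ ≠ 1 := fun e => ht ((hm.centralizer_eq h).1 fun a ha =>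
    (heq t ⟨a, ha⟩).1 (by rw [← hθ, e]; rfl))
  have hP : IsPGroup 5 (Subgroup.zpowers θ) :=
    IsPGroup.of_card (n := 1) (by rw [Nat.card_zpowers, orderOf_eq_prime h5 h1, pow_one])
  have hmod := ThreePrimes.card_modEq_fixed hP (Subgroup.zpowers θ).subtype ⊤ (fun _ _ _ => mem_top _)
  set F := ThreePrimes.fixSub (Subgroup.zpowers θ).subtype ⊤ with hF
  have hFe : Nat.card {a : A // a ∈ (⊤ : Subgroup A) ∧
      ∀ g : Subgroup.zpowers θ, (Subgroup.zpowers θ).subtype g a = a} = Nat.card F :=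
    Nat.card_congr (Equiv.subtypeEquivRight fun a =>
      ⟨fun ha g _ => ha.2 g, fun ha => ⟨mem_top _, fun g => ha g (mem_top _)⟩⟩)
  rw [hFe, card_top] at hmod
  obtain ⟨j, hj4, hj⟩ := card_elem h.rank hm.sq
  obtain ⟨i, hij, hi⟩ := (Nat.dvd_prime_pow Nat.prime_two).1 (hj ▸ F.card_subgroup_dvd_card)
  have hlt : i < j := by
    by_contra hc
    have hij' : i = j := by omega
    have hFt : F = ⊤ := eq_of_le_of_card_ge le_top (by rw [card_top, hi, hij', hj])
    exact h1 (MulEquiv.ext fun a => (hFt ▸ mem_top a : a ∈ F) ⟨θ, mem_zpowers θ⟩ (mem_top _))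
  rw [hj, hi] at hmod
  have hh : j = 4 ∧ i = 0 := by
    unfold Nat.ModEq at hmod
    interval_cases j <;> interval_cases i <;> simp at hmod ⊢
  refine ⟨by rw [hj, hh.1]; norm_num, fun a ha hta => ?_⟩
  have haF : (⟨a, ha⟩ : A) ∈ F := by
    intro g _
    obtain ⟨g, hg⟩ := g
    exact (zpowers_le.2 (show θ ∈ MulAction.stabilizer (MulAut A) (⟨a, ha⟩ : A) from
      (heq t ⟨a, ha⟩).2 hta) hg :)
  have hb : F = ⊥ := card_eq_one.1 (by rw [hi, hh.2, pow_zero])
  rw [hb, mem_bot] at haF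
  exact congrArg Subtype.val haF

theorem Mod.card (h : Setup Q) (hm : Mod Q A) : Nat.card A = 16 := by
  obtain ⟨t, ht, htQ⟩ := h.exists_prime_elt (p := 5) (by norm_num) (by norm_num) (by norm_num)
  exact (hm.five h htQ (by rw [ht]; exact one_mem Q)).1

theorem Mod.fixed (h : Setup Q) (hm : Mod Q A) {a : G} (ha : a ∈ A) (hc : ∀ g : G, g * a = a * g) :
    a = 1 := by
  obtain ⟨t, ht, htQ⟩ := h.exists_prime_elt (p := 5) (by norm_num) (by norm_num) (by norm_num)
  exact (hm.five h htQ (by rw [ht]; exact one_mem Q)).2 a ha (hc t)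

theorem Mod.irreducible (h : Setup Q) (hm : Mod Q A) (U : Subgroup G) (hU : U.Normal) (hUA : U ≤ A) :
    U = ⊥ ∨ U = A := by
  by_cases hact : ∃ g : G, ∃ a ∈ U, g * a ≠ a * g
  · have hu : Mod Q U := ⟨hU, hUA.trans hm.le, fun a ha => hm.sq a (hUA ha),
      fun q hq a ha => hm.cQ q hq a (hUA ha), hact⟩
    exact Or.inr (eq_of_le_of_card_ge hUA (by rw [hu.card h, hm.card h]))
  · push Not at hact
    exact Or.inl (eq_bot_iff.2 fun a ha => mem_bot.2 (hm.fixed h (hUA ha) fun g => hact g a ha))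

theorem Mod.involution (h : Setup Q) (hm : Mod Q A) {u : G} (hu : u ∉ Q) (huu : u * u ∈ Q) :
    Nat.card (A ⊓ centralizer {u} : Subgroup G) = 4 ∧
      ∀ c ∈ A, u * c = c * u → ∃ a ∈ A, c = a * (u * a * u⁻¹) := by
  haveI := hm.normal
  have hco : ∀ a b : A, a * b = b * a := fun a b => Subtype.ext (comm_of_sq hm.sq a.2 b.2)
  set θ : MulAut A := MulAut.conjNormal u with hθ
  let f : A →* A :=
    { toFun := fun a => a * θ a
      map_one' := by rw [map_one, one_mul]
      map_mul' := fun a b => by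
        rw [map_mul, mul_assoc, ← mul_assoc b, hco b (θ a)]; simp only [mul_assoc] }
  have hsqA : ∀ a : A, a⁻¹ = a := fun a =>
    inv_eq_of_mul_eq_one_right (Subtype.ext (hm.sq a a.2))
  have hker : ∀ a : A, a ∈ f.ker ↔ u * a = a * u := fun a => by
    rw [MonoidHom.mem_ker]
    show a * θ a = 1 ↔ _
    rw [mul_eq_one_iff_inv_eq, hsqA, eq_comm, Subtype.ext_iff, hθ, MulAut.conjNormal_apply,
      mul_inv_eq_iff_eq_mul]
  have hrk : f.range ≤ f.ker := by
    rintro _ ⟨a, rfl⟩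
    rw [MonoidHom.mem_ker]
    show a * θ a * θ (a * θ a) = 1
    have h2 : θ (θ a) = a := by
      rw [← MulAut.mul_apply, hθ, ← map_mul, Subtype.ext_iff, MulAut.conjNormal_apply,
        mul_inv_eq_iff_eq_mul]
      exact hm.cQ _ huu a a.2
    rw [map_mul, h2, hco (θ a) a]
    exact Subtype.ext (hm.sq _ (a * θ a).2)
  have h16 : Nat.card f.range * Nat.card f.ker = 16 := by
    rw [← Nat.card_congr (QuotientGroup.quotientKerEquivRange f).toEquiv,
      ← card_eq_card_quotient_mul_card_subgroup, hm.card h]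
  have hle := card_le_of_le hrk
  obtain ⟨g, hgQ, hg5⟩ := h.not_mem_of_sq hu huu
  have hker4 : Nat.card f.ker * Nat.card f.ker ≤ 16 := by
    set C := f.ker
    let C' : Subgroup A := C.map (MulAut.conjNormal g : MulAut A).toMonoidHom
    have hC' : Nat.card C' = Nat.card C :=
      (Nat.card_congr (C.equivMapOfInjective _ (MulEquiv.injective _)).toEquiv).symm
    have hd : C ⊓ C' = ⊥ := eq_bot_iff.2 fun a ha => by
      obtain ⟨h1, b, hb, hba⟩ := ha.1, mem_map.1 ha.2
      rw [mem_bot]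
      have hb' : u * b = b * u := (hker b).1 hb
      have hba' : g * (b : G) * g⁻¹ = a := by
        rw [← hba]; exact (MulAut.conjNormal_apply g b).symm
      have hau : u * (a : G) = a * u := (hker a).1 h1
      have hav : g * u * g⁻¹ * (a : G) = a * (g * u * g⁻¹) := by
        rw [← hba']
        calc g * u * g⁻¹ * (g * b * g⁻¹) = g * (u * b) * g⁻¹ := by group
          _ = g * (b * u) * g⁻¹ := by rw [hb']
          _ = _ := by group
      refine Subtype.ext ((hm.five h hgQ hg5).2 a a.2 ?_)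
      calc u * (g * u * g⁻¹) * (a : G) = u * (g * u * g⁻¹ * a) := by group
        _ = u * a * (g * u * g⁻¹) := by rw [hav]; group
        _ = a * (u * (g * u * g⁻¹)) := by rw [hau]; group
    have := Nat.card_le_card_of_injective _ (mul_injective_of_disjoint (disjoint_iff.2 hd))
    rwa [Nat.card_prod, hC', hm.card h] at this
  have hk : Nat.card f.ker = 4 := by nlinarith
  have heq : f.range = f.ker := eq_of_le_of_card_ge hrk (by rw [hk] at h16 ⊢; omega)
  refine ⟨?_, fun c hc huc => ?_⟩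
  · rw [← hk]
    exact Nat.card_congr
      { toFun := fun a => ⟨⟨a, a.2.1⟩, (hker _).2 (mem_centralizer_singleton_iff.1 a.2.2).symm⟩
        invFun := fun a => ⟨(a : A), (a : A).2,
          mem_centralizer_singleton_iff.2 ((hker _).1 a.2).symm⟩
        left_inv := fun _ => rfl
        right_inv := fun _ => rfl }
  · obtain ⟨a, ha⟩ : (⟨c, hc⟩ : A) ∈ f.range := heq ▸ (hker _).2 huc
    refine ⟨a, a.2, ?_⟩
    have := congrArg Subtype.val ha
    refine this.symm.trans ?_
    show ((a * θ a : A) : G) = _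
    rw [coe_mul, hθ, MulAut.conjNormal_apply]

/-- An involution of the quotient lifts to an element squaring to one. -/
theorem Mod.adjust (h : Setup Q) (hm : Mod Q A) {u : G} (hu : u ∉ Q) (huu : u * u ∈ A) :
    ∃ a ∈ A, (a * u) * (a * u) = 1 ∧ a * u ∉ Q := by
  obtain ⟨a, ha, hc⟩ := (hm.involution h hu (hm.le huu)).2 (u * u) huu (mul_assoc u u u).symm
  refine ⟨a, ha, ?_, fun hq => hu ?_⟩
  · calc a * u * (a * u) = a * (u * a * u⁻¹) * (u * u) := by group
      _ = u * u * (u * u) := by rw [← hc]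
      _ = 1 := hm.sq _ huu
  · simpa using mul_mem (inv_mem (hm.le ha)) hq

/-- A nontrivial module below a nontrivial module is impossible. -/
theorem layer_sixteen (h : Setup Q) (hW : Mod Q W) (hsq : ∀ q ∈ Q, q * q ∈ W)
    (hact : ∃ g : G, ∃ q ∈ Q, g * q * g⁻¹ * q⁻¹ ∉ W) : False := by
  haveI := hW.normal
  haveI := h.normal
  set mk := QuotientGroup.mk' W with hmk
  have hS := h.quotient W hW.le
  have hsq' : ∀ a ∈ Q.map mk, a * a = 1 := by
    rintro _ ⟨q, hq, rfl⟩
    rw [← map_mul, ← MonoidHom.mem_ker, hmk, QuotientGroup.ker_mk']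
    exact hsq q hq
  have hV : Mod (Q.map mk) (Q.map mk) := ⟨h.normal.map mk (QuotientGroup.mk'_surjective W), le_rfl,
    hsq', fun q hq a ha => comm_of_sq hsq' hq ha, by
      obtain ⟨g, q, hq, hne⟩ := hact
      refine ⟨mk g, mk q, mem_map_of_mem _ hq, fun e => hne ?_⟩
      rw [← QuotientGroup.ker_mk' W, MonoidHom.mem_ker, ← hmk, map_mul, map_mul, map_mul, map_inv,
        map_inv, e]
      group⟩
  obtain ⟨u0, hu0, huu0⟩ := h.exists_involution
  obtain ⟨a0, ha0, ha02, ha0Q⟩ := hV.adjust hS (u := mk u0)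
    (fun e => hu0 ((mem_map_mk hW.le).1 e)) (by rw [← map_mul]; exact mem_map_of_mem _ huu0)
  obtain ⟨q0, hq0, rfl⟩ := mem_map.1 ha0
  have hu1 : q0 * u0 * (q0 * u0) ∈ W := by
    rw [← QuotientGroup.ker_mk' W, MonoidHom.mem_ker, ← hmk, map_mul, map_mul]
    exact ha02
  obtain ⟨w0, hw0, hw02, hw0Q⟩ := hW.adjust h (u := q0 * u0)
    (fun e => hu0 (by simpa using mul_mem (inv_mem hq0) e)) hu1
  set u := w0 * (q0 * u0) with hu
  clear_value u
  have huW : u * u ∈ W := by rw [hw02]; exact one_mem W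
  set D := W ⊓ centralizer ({u} : Set G) with hD
  have hDc : Nat.card D = 4 := (hW.involution h hw0Q (hW.le huW)).1
  set A := Q ⊓ (centralizer ({mk u} : Set (G ⧸ W))).comap mk with hA
  have hWA : W ≤ A := fun w hw => ⟨hW.le hw, by
    show mk w ∈ centralizer ({mk u} : Set (G ⧸ W))
    rw [show mk w = 1 from by rw [← MonoidHom.mem_ker, hmk, QuotientGroup.ker_mk']; exact hw]
    exact one_mem _⟩
  have hAc : Nat.card A = 64 := by
    have e : A = (Q.map mk ⊓ centralizer ({mk u} : Set (G ⧸ W))).comap mk := by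
      rw [comap_inf, hA]
      congr 1
      ext g
      exact (mem_map_mk hW.le).symm
    have h4 : Nat.card (Q.map mk ⊓ centralizer ({mk u} : Set (G ⧸ W)) : Subgroup _) = 4 :=
      (hV.involution hS (u := mk u) (fun e => hw0Q ((mem_map_mk hW.le).1 e))
        (by rw [← map_mul]; exact mem_map_of_mem _ (hW.le huW))).1
    rw [e, card_comap_mk, hW.card h, h4]
  have hAu : ∀ a ∈ A, u * a * u⁻¹ * a⁻¹ ∈ W := fun a ha => by
    rw [← QuotientGroup.ker_mk' W, MonoidHom.mem_ker, ← hmk, map_mul, map_mul, map_mul, map_inv,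
      map_inv, ← mem_centralizer_singleton_iff.1 ha.2]
    group
  have hcW : ∀ a ∈ A, ∀ w ∈ W, a * w = w * a := fun a ha w hw => hW.cQ a ha.1 w hw
  have hfix : ∀ d ∈ W, u * d * u⁻¹ = d → d ∈ D := fun d hd he =>
    ⟨hd, mem_centralizer_singleton_iff.2 (mul_inv_eq_iff_eq_mul.1 he).symm⟩
  have h1 : ∀ a ∈ A, a * a ∈ D := fun a ha => by
    have hw := hAu a ha
    set w := u * a * u⁻¹ * a⁻¹ with hwdef
    refine hfix _ (hsq a ha.1) ?_
    have e : u * (a * a) * u⁻¹ = w * a * (w * a) := by rw [hwdef]; group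
    rw [e, ← mul_assoc, mul_assoc w a w, hcW a ha w hw, ← mul_assoc, hW.sq w hw, one_mul]
  have h2 : ∀ a ∈ A, u * a * u⁻¹ * a⁻¹ ∈ D := fun a ha => by
    have hw := hAu a ha
    refine hfix _ hw ?_
    set w := u * a * u⁻¹ * a⁻¹ with hwdef
    have h2u : u⁻¹ = u := inv_eq_of_mul_eq_one_right hw02
    have e : u * w * u⁻¹ = a * (w * a)⁻¹ := by
      rw [hwdef]
      simp only [mul_inv_rev, inv_inv, h2u, mul_assoc]
      rw [← mul_assoc u u, hw02, one_mul]
      simp
    rw [e, mul_inv_rev, mul_inv_cancel_left]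
    exact inv_eq_of_mul_eq_one_right (hW.sq w hw)
  have h3 : ∀ a ∈ A, ∀ b ∈ A, a * b * a⁻¹ * b⁻¹ ∈ D := fun a ha b hb => by
    have hv := hAu a ha
    have hw := hAu b hb
    set v := u * a * u⁻¹ * a⁻¹ with hvdef
    set w := u * b * u⁻¹ * b⁻¹ with hwdef
    have hcc : a * b * a⁻¹ * b⁻¹ ∈ W := by
      rw [← QuotientGroup.ker_mk' W, MonoidHom.mem_ker, ← hmk, map_mul, map_mul, map_mul, map_inv,
        map_inv, comm_of_sq hsq' (mem_map_of_mem _ ha.1) (mem_map_of_mem _ hb.1)]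
      group
    refine hfix _ hcc ?_
    have e : u * (a * b * a⁻¹ * b⁻¹) * u⁻¹ = v * a * (w * b) * (v * a)⁻¹ * (w * b)⁻¹ := by
      rw [hvdef, hwdef]; group
    have va : Commute v a := (hcW a ha v hv).symm
    have vb : Commute v b := (hcW b hb v hv).symm
    have wa : Commute w a := (hcW a ha w hw).symm
    have wb : Commute w b := (hcW b hb w hw).symm
    have vw : Commute v w := comm_of_sq hW.sq hv hw
    rw [e]
    calc v * a * (w * b) * (v * a)⁻¹ * (w * b)⁻¹
        = v * (a * w) * b * a⁻¹ * v⁻¹ * b⁻¹ * w⁻¹ := by group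
      _ = v * w * (a * b * a⁻¹) * (v⁻¹ * b⁻¹) * w⁻¹ := by rw [← wa.eq]; group
      _ = (v * w) * (a * b * a⁻¹ * b⁻¹) * (w * v)⁻¹ := by rw [vb.inv_inv.eq]; group
      _ = a * b * a⁻¹ * b⁻¹ := by
        rw [vw.symm.eq, comm_of_sq hW.sq (mul_mem hv hw) hcc]; group
  -- the section of order `32`
  set S : Set G := (A : Set G) ∪ {u} with hS'
  set H := closure S with hH
  have huH : u ∈ H := subset_closure (Or.inr rfl)
  have hAH : A ≤ H := fun a ha => subset_closure (Or.inl ha)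
  have hDA : D ≤ A := inf_le_left.trans hWA
  have hdc : ∀ x ∈ H, ∀ d ∈ D, Commute x d := by
    intro x hx d hd
    have : x ∈ centralizer ({d} : Set G) := by
      revert x
      show H ≤ centralizer ({d} : Set G)
      rw [hH, closure_le]
      rintro x (hx | rfl)
      · exact mem_centralizer_singleton_iff.2 (hcW x hx d hd.1)
      · exact mem_centralizer_singleton_iff.2 (mem_centralizer_singleton_iff.1 hd.2).symm
    exact mem_centralizer_singleton_iff.1 this
  have hgen : ∀ x ∈ S, ∀ y ∈ S, x * y * x⁻¹ * y⁻¹ ∈ D := by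
    rintro x (hx | rfl) y (hy | rfl)
    · exact h3 x hx y hy
    · have := inv_mem (h2 x hx)
      rw [show x * y * x⁻¹ * y⁻¹ = (y * x * y⁻¹ * x⁻¹)⁻¹ by group]
      exact this
    · exact h2 y hy
    · simp
  have hcomm : ∀ x ∈ H, ∀ y ∈ H, x * y * x⁻¹ * y⁻¹ ∈ D := by
    intro x hx y hy
    induction hx, hy using closure_induction₂ with
    | mem x y hx hy => exact hgen x hx y hy
    | one_left y _ => simp
    | one_right x _ => simp
    | mul_left x y z hx hy hz h1 h2 =>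
      rw [show x * y * z * (x * y)⁻¹ * z⁻¹ = x * (y * z * y⁻¹ * z⁻¹) * x⁻¹ * (x * z * x⁻¹ * z⁻¹) by
        group, (hdc x hx _ h2).eq, mul_inv_cancel_right]
      exact mul_mem h2 h1
    | mul_right y z x hy hz hx h1 h2 =>
      rw [show x * (y * z) * x⁻¹ * (y * z)⁻¹ = (x * y * x⁻¹ * y⁻¹) * (y * (x * z * x⁻¹ * z⁻¹) * y⁻¹) by
        group, (hdc y hy _ h2).eq, mul_inv_cancel_right]
      exact mul_mem h1 h2
    | inv_left x y hx hy h1 =>
      rw [show x⁻¹ * y * x⁻¹⁻¹ * y⁻¹ = x⁻¹ * (x * y * x⁻¹ * y⁻¹)⁻¹ * x by group,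
        (hdc x⁻¹ (inv_mem hx) _ (inv_mem h1)).eq, inv_mul_cancel_right]
      exact inv_mem h1
    | inv_right x y hx hy h1 =>
      rw [show x * y⁻¹ * x⁻¹ * y⁻¹⁻¹ = y⁻¹ * (x * y * x⁻¹ * y⁻¹)⁻¹ * y by group,
        (hdc y⁻¹ (inv_mem hy) _ (inv_mem h1)).eq, inv_mul_cancel_right]
      exact inv_mem h1
  have hsqH : ∀ x ∈ H, x * x ∈ D := by
    intro x hx
    induction hx using closure_induction with
    | mem x hx =>
      rcases hx with hx | rfl
      · exact h1 x hx
      · rw [hw02]; exact one_mem D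
    | one => simp
    | mul x y hx hy h1 h2 =>
      rw [show x * y * (x * y) = x * (y * x * y⁻¹ * x⁻¹) * x * (y * y) by group,
        (hdc x hx _ (hcomm y hy x hx)).eq, mul_assoc (y * x * y⁻¹ * x⁻¹) x x]
      exact mul_mem (mul_mem (hcomm y hy x hx) h1) h2
    | inv x hx h1 => rw [← mul_inv_rev]; exact inv_mem h1
  have hlt := h.rank H D (hDA.trans hAH)
    (fun x hx d hd => by rw [(hdc x hx d hd).eq, mul_inv_cancel_right]; exact hd) hcomm hsqH
  obtain ⟨k, hk⟩ := card_dvd_of_le hAH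
  have hk2 : 2 ≤ k := by
    by_contra hk2
    have hHA : A = H := eq_of_le_of_card_ge hAH (by
      rw [hk]; calc Nat.card A * k ≤ Nat.card A * 1 := Nat.mul_le_mul_left _ (by omega)
        _ = Nat.card A := mul_one _)
    exact hw0Q (hHA ▸ huH : u ∈ A).1
  rw [hDc, hk, hAc] at hlt
  omega

end ModLemmas

end CfsgLib.RankFourA5
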